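import Mathlib
import Cfsg.Agent.Lib.Signalizer2.ConstrainedCore
import Cfsg.Agent.Lib.Involutions.ConstrainedLocal
import Cfsg.Agent.Lib.Involutions.StrongEmb
import Cfsg.Agent.Lib.StrongTwoClasses.Main
import Cfsg.Agent.Lib.PLocal.Constrained

/-!
# Centralisers of involutions with common odd core

Criteria for a strongly embedded subgroup and for characteristic two type in groups whose
involution centralisers are 2-constrained.
-/

set_option autoImplicit false
set_option linter.style.haveILetI false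
set_option linter.unusedSectionVars false

namespace CfsgLib.LocalEven.CentralZ

open Cfsg Subgroup CfsgLib.Base CfsgLib.Signalizer2

universe u

variable {G : Type u} [Group G] [Finite G]

/-- Solvable involution centralisers and trivial `2`-core give constrained `2`-locals. -/
theorem localsConstrained_of_solvable
    (hC : ∀ t : G, orderOf t = 2 → Group.IsSolvable ↥(centralizer ({t} : Set G)))
    (hO : pCore 2 G = ⊥) : LocalsConstrained G := by
  haveI : Fact (Nat.Prime 2) := ⟨Nat.prime_two⟩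
  intro T hT hT1
  refine CfsgLib.Involutions.pLocal_isPConstrained (Or.inr fun x hx => ?_) hT hT1 fun htop => hT1 ?_
  · haveI := hC x hx
    exact CfsgLib.PLocal.isPConstrained_of_isPSolvable
      CfsgLib.PLocal.isPSolvable_of_isSolvable
  · haveI : T.Normal := normalizer_eq_top_iff.1 htop
    exact le_bot_iff.1 (hO ▸ le_pCore hT)

theorem orderOf_two {t : G} : orderOf t = 2 ↔ t * t = 1 ∧ t ≠ 1 := by
  haveI : Fact (Nat.Prime 2) := ⟨Nat.prime_two⟩
  rw [orderOf_eq_prime_iff, sq]

/-- A 2-subgroup normalising a Sylow 2-subgroup lies in it. -/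
theorem le_of_le_normalizer (P : Sylow 2 G) {T : Subgroup G} (hT : IsPGroup 2 T)
    (hn : T ≤ normalizer ((P : Subgroup G) : Set G)) : T ≤ (P : Subgroup G) := by
  have h : IsPGroup 2 ↥(T ⊔ (P : Subgroup G)) := hT.to_sup_of_normal_right' P.2 hn
  exact le_sup_left.trans (P.3 h le_sup_right).le

theorem mem_of_mem_normalizer (P : Sylow 2 G) {x : G} {n : ℕ} (hx : x ^ 2 ^ n = 1)
    (hn : x ∈ normalizer ((P : Subgroup G) : Set G)) : x ∈ (P : Subgroup G) :=
  le_of_le_normalizer P (CfsgLib.Signalizer2.isPGroup_zpowers hx) (zpowers_le.2 hn) (mem_zpowers x)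

theorem exists_central_invol (P : Sylow 2 G) (hP : (P : Subgroup G) ≠ ⊥) :
    ∃ z ∈ (P : Subgroup G), orderOf z = 2 ∧ ∀ r ∈ (P : Subgroup G), Commute z r := by
  haveI : Fact (Nat.Prime 2) := ⟨Nat.prime_two⟩
  haveI : Nontrivial (P : Subgroup G) := (nontrivial_iff_ne_bot _).2 hP
  haveI := P.2.center_nontrivial
  obtain ⟨z, hz⟩ := exists_prime_orderOf_dvd_card' 2 (G := center (P : Subgroup G)) (by
    obtain ⟨n, hn⟩ := IsPGroup.iff_card.1 (P.2.to_subgroup (center (P : Subgroup G)))
    rw [hn]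
    refine dvd_pow_self 2 fun h0 => ?_
    rw [h0, pow_zero] at hn
    exact absurd hn Finite.one_lt_card.ne')
  exact ⟨((z : (P : Subgroup G)) : G), (z : (P : Subgroup G)).2, by rw [orderOf_coe, orderOf_coe, hz],
    fun r hr => (congrArg Subtype.val (mem_center_iff.1 z.2 ⟨r, hr⟩)).symm⟩

theorem sylow_ne_bot (P : Sylow 2 G) (heven : Even (Nat.card G)) : (P : Subgroup G) ≠ ⊥ := by
  intro h
  haveI : Fact (Nat.Prime 2) := ⟨Nat.prime_two⟩
  refine P.not_dvd_index ?_
  rw [h, index_bot]
  exact heven.two_dvd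

/-- Every 2-subgroup of `K` is conjugate in `K` into a Sylow 2-subgroup contained in `K`. -/
theorem exists_conj_mem (P : Sylow 2 G) {K T : Subgroup G} (hPK : (P : Subgroup G) ≤ K)
    (hTK : T ≤ K) (hT : IsPGroup 2 T) :
    ∃ m ∈ K, ∀ x ∈ T, m * x * m⁻¹ ∈ (P : Subgroup G) := by
  haveI : Fact (Nat.Prime 2) := ⟨Nat.prime_two⟩
  obtain ⟨S, hS⟩ := (hT.comap_subtype (K := K)).exists_le_sylow
  obtain ⟨m, hm⟩ := MulAction.exists_smul_eq K S (P.subtype hPK)
  refine ⟨m, m.2, fun x hx => ?_⟩
  have h1 : m * ⟨x, hTK hx⟩ * m⁻¹ ∈ ((m • S : Sylow 2 K) : Subgroup K) := by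
    rw [Sylow.coe_subgroup_smul, ← map_conj_eq_smul]
    exact ⟨⟨x, hTK hx⟩, hS hx, rfl⟩
  rw [hm] at h1
  exact mem_subgroupOf.1 h1

theorem exists_conj_invol_mem (P : Sylow 2 G) {K : Subgroup G} (hPK : (P : Subgroup G) ≤ K)
    {t : G} (ht : orderOf t = 2) (htK : t ∈ K) : ∃ m ∈ K, m * t * m⁻¹ ∈ (P : Subgroup G) := by
  obtain ⟨m, hm, h⟩ := exists_conj_mem P hPK (zpowers_le.2 htK)
    (CfsgLib.Signalizer2.isPGroup_zpowers (n := 1) (by rw [pow_one, sq]; exact (orderOf_two.1 ht).1))
  exact ⟨m, hm, h t (mem_zpowers t)⟩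

theorem orderOf_conj (g t : G) : orderOf (g * t * g⁻¹) = orderOf t :=
  orderOf_injective (MulAut.conj g).toMonoidHom (MulAut.conj g).injective t

theorem mem_centralizer_conj {g t x : G} :
    x ∈ centralizer ({g * t * g⁻¹} : Set G) ↔ g⁻¹ * x * g ∈ centralizer ({t} : Set G) := by
  rw [mem_centralizer_singleton_iff, mem_centralizer_singleton_iff]
  constructor
  · intro h
    calc g⁻¹ * x * g * t = g⁻¹ * (x * (g * t * g⁻¹)) * g := by group
      _ = t * (g⁻¹ * x * g) := by rw [h]; group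
  · intro h
    calc x * (g * t * g⁻¹) = g * (g⁻¹ * x * g * t) * g⁻¹ := by group
      _ = g * t * g⁻¹ * x := by rw [h]; group

/-- Criterion for a strongly embedded subgroup. -/
theorem stronglyEmbedded_of (P : Sylow 2 G) {M : Subgroup G} (hP : (P : Subgroup G) ≠ ⊥)
    (hM : M ≠ ⊤) (hN : normalizer ((P : Subgroup G) : Set G) ≤ M)
    (hC : ∀ t ∈ (P : Subgroup G), orderOf t = 2 → centralizer ({t} : Set G) ≤ M) :
    IsStronglyEmbedded M := by
  haveI : Fact (Nat.Prime 2) := ⟨Nat.prime_two⟩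
  have hPM : (P : Subgroup G) ≤ M := le_normalizer.trans hN
  obtain ⟨z, hzP, hz2, hzc⟩ := exists_central_invol P hP
  -- the key fusion step
  have key : ∀ a : G, ∀ t ∈ (P : Subgroup G), orderOf t = 2 → a * t * a⁻¹ ∈ (P : Subgroup G) →
      a ∈ M := by
    intro a t ht ht2 hs
    have haz : a * z * a⁻¹ ∈ M := by
      refine hC _ hs (by rw [orderOf_conj, ht2]) (mem_centralizer_conj.2 ?_)
      rw [show a⁻¹ * (a * z * a⁻¹) * a = z by group]
      exact mem_centralizer_singleton_iff.2 (hzc t ht).eq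
    obtain ⟨m, hm, hy⟩ := exists_conj_invol_mem P hPM (by rw [orderOf_conj, hz2]) haz
    set h := m * a with hh
    have hyz : m * (a * z * a⁻¹) * m⁻¹ = h * z * h⁻¹ := by rw [hh]; group
    rw [hyz] at hy
    have hle : ((P : Subgroup G)).map (MulAut.conj h).toMonoidHom ≤ M := by
      rintro _ ⟨r, hr, rfl⟩
      refine hC _ hy (by rw [orderOf_conj, hz2]) (mem_centralizer_conj.2 ?_)
      show h⁻¹ * (h * r * h⁻¹) * h ∈ _
      rw [show h⁻¹ * (h * r * h⁻¹) * h = r by group]
      exact mem_centralizer_singleton_iff.2 (hzc r hr).eq.symm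
    obtain ⟨m', hm', hmem⟩ := exists_conj_mem P hPM hle (P.2.map _)
    have hn : m' * h ∈ normalizer ((P : Subgroup G) : Set G) := by
      refine mem_normalizer_iff_map_conj_eq.2 (eq_of_le_of_card_ge ?_ ?_)
      · rintro _ ⟨r, hr, rfl⟩
        show m' * h * r * (m' * h)⁻¹ ∈ _
        have := hmem _ ⟨r, hr, rfl⟩
        simpa [mul_assoc] using this
      · exact (Subgroup.card_map_of_injective (MulAut.conj (m' * h)).injective).ge
    have hhM : h ∈ M := by simpa using mul_mem (inv_mem hm') (hN hn)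
    simpa [hh] using mul_mem (inv_mem hm) hhM
  refine ⟨hM, (CfsgLib.Involutions.even_card_iff M).2 ⟨z, hPM hzP, hz2⟩, fun g hg => ?_⟩
  rw [CfsgLib.Involutions.odd_card_iff]
  rintro s ⟨hsM, t, htM, hts⟩ hs2
  refine hg ?_
  have hts' : g * t * g⁻¹ = s := hts
  have ht2 : orderOf t = 2 := by rw [← orderOf_conj g t, hts', hs2]
  obtain ⟨m₁, hm₁, h₁⟩ := exists_conj_invol_mem P hPM ht2 htM
  obtain ⟨m₂, hm₂, h₂⟩ := exists_conj_invol_mem P hPM hs2 hsM
  have := key (m₂ * g * m₁⁻¹) (m₁ * t * m₁⁻¹) h₁ (by rw [orderOf_conj, ht2]) (by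
    rw [← hts'] at h₂
    simpa [mul_assoc] using h₂)
  simpa [mul_assoc] using mul_mem (mul_mem (inv_mem hm₂) this) hm₁

theorem map_conj_core (g b : G) :
    (centralizerPPrimeCore 2 b).map (MulAut.conj g).toMonoidHom =
      centralizerPPrimeCore 2 (g * b * g⁻¹) := by
  refine le_antisymm ?_ fun x hx => ?_
  · rintro _ ⟨x, hx, rfl⟩
    exact CfsgLib.StrongTwoClasses.conj_mem_core hx
  · have := CfsgLib.StrongTwoClasses.conj_mem_core (g := g⁻¹) hx
    rw [show g⁻¹ * (g * b * g⁻¹) * g⁻¹⁻¹ = b by group] at this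
    exact ⟨_, this, by show g * (g⁻¹ * x * g⁻¹⁻¹) * g⁻¹ = x; group⟩

theorem map_conj_Wpair (g u v : G) :
    (Wpair u v).map (MulAut.conj g).toMonoidHom = Wpair (g * u * g⁻¹) (g * v * g⁻¹) := by
  simp only [Wpair, Subgroup.map_sup, map_conj_core,
    show g * u * g⁻¹ * (g * v * g⁻¹) = g * (u * v) * g⁻¹ by group]

/-- All involutions have trivial odd core of their centraliser. -/
def CoresTrivial (G : Type u) [Group G] : Prop :=
  ∀ t : G, orderOf t = 2 → centralizerPPrimeCore 2 t = ⊥

theorem coresTrivial_of (P : Sylow 2 G)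
    (h : ∀ t ∈ (P : Subgroup G), orderOf t = 2 → centralizerPPrimeCore 2 t = ⊥) :
    CoresTrivial G := by
  intro t ht
  obtain ⟨m, -, hm⟩ := exists_conj_invol_mem P le_top ht (mem_top t)
  have h1 := map_conj_core m t
  rw [h _ hm (by rw [orderOf_conj, ht]), map_eq_bot_iff_of_injective _ (MulAut.conj m).injective] at h1
  exact h1

/-- The conclusion of the reduction. -/
def Alt (G : Type u) [Group G] : Prop :=
  (∃ M : Subgroup G, IsStronglyEmbedded M) ∨ CoresTrivial G

/-- A nontrivial odd subgroup normalised by the Sylow normaliser and by the centralisers. -/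
theorem alt_of_odd (hO' : pPrimeCore 2 G = ⊥) (P : Sylow 2 G) (hP : (P : Subgroup G) ≠ ⊥)
    {W : Subgroup G} (hW : Odd (Nat.card W))
    (hle : ∀ t ∈ (P : Subgroup G), orderOf t = 2 → centralizerPPrimeCore 2 t ≤ W)
    (hN : normalizer ((P : Subgroup G) : Set G) ≤ normalizer (W : Set G))
    (hC : ∀ t ∈ (P : Subgroup G), orderOf t = 2 → centralizer ({t} : Set G) ≤ normalizer (W : Set G)) :
    Alt G := by
  by_cases hW1 : W = ⊥
  · exact Or.inr (coresTrivial_of P fun t ht ht2 => le_bot_iff.1 (hW1 ▸ hle t ht ht2))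
  refine Or.inl ⟨_, stronglyEmbedded_of P hP (fun htop => hW1 ?_) hN hC⟩
  haveI : W.Normal := normalizer_eq_top_iff.1 htop
  exact le_bot_iff.1 (hO' ▸ le_pPrimeCore (Nat.coprime_two_right.2 hW))

theorem alt_of_const (hO' : pPrimeCore 2 G = ⊥) (P : Sylow 2 G) (hP : (P : Subgroup G) ≠ ⊥)
    {W : Subgroup G}
    (h : ∀ t ∈ (P : Subgroup G), orderOf t = 2 → centralizerPPrimeCore 2 t = W) : Alt G := by
  obtain ⟨z, hzP, hz2, -⟩ := exists_central_invol P hP
  refine alt_of_odd hO' P hP (h z hzP hz2 ▸ CfsgLib.StrongTwoClasses.odd_card_core z)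
    (fun t ht ht2 => (h t ht ht2).le) (fun n hn => ?_) fun t ht ht2 => ?_
  · refine mem_normalizer_iff_map_conj_eq.2 ?_
    show W.map (MulAut.conj n).toMonoidHom = W
    rw [← h z hzP hz2, map_conj_core, h z hzP hz2]
    exact h _ ((mem_normalizer_iff.1 hn z).1 hzP) (by rw [orderOf_conj, hz2])
  · rw [← h t ht ht2]
    exact CfsgLib.StrongTwoClasses.centralizer_le_normalizer_core t

/-- Trivial cores give characteristic two type. -/
theorem isCharacteristicTwoType_of (h2c : LocalsConstrained G) (heven : Even (Nat.card G))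
    (h : CoresTrivial G) : IsCharacteristicTwoType G := by
  haveI : Fact (Nat.Prime 2) := ⟨Nat.prime_two⟩
  refine ⟨heven, fun T hT hT1 => ?_⟩
  set N := normalizer (T : Set G) with hN
  have hbot : pPrimeCore 2 ↥N = ⊥ := by
    haveI : Nontrivial T := (nontrivial_iff_ne_bot _).2 hT1
    haveI := hT.center_nontrivial
    obtain ⟨c, hc⟩ := exists_prime_orderOf_dvd_card' 2 (G := center T) (by
      obtain ⟨n, hn⟩ := IsPGroup.iff_card.1 (hT.to_subgroup (center T))
      rw [hn]
      refine dvd_pow_self 2 fun h0 => ?_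
      rw [h0, pow_zero] at hn
      exact absurd hn Finite.one_lt_card.ne')
    set a : G := ((c : T) : G) with ha
    have ha2 : orderOf a = 2 := by rw [ha, orderOf_coe, orderOf_coe, hc]
    set X := centralizer ({a} : Set G) with hX
    have hTX : T ≤ X := fun t ht => mem_centralizer_singleton_iff.2
      (congrArg Subtype.val (mem_center_iff.1 c.2 ⟨t, ht⟩))
    set K := (pPrimeCore 2 ↥N).map N.subtype with hK
    have hKN : K ≤ N := map_subtype_le _
    have hKc : (Nat.card K).Coprime 2 := coprime_card_map_pPrimeCore N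
    have hKT : K ≤ centralizer (T : Set G) := le_centralizer_of_normalize
      (by rw [inf_comm]; exact inf_eq_bot_of_isPGroup_of_coprime hT hKc)
      hKN (le_normalizer.trans (le_normalizer_map_pPrimeCore N))
    have hKX : K ≤ X := hKT.trans (centralizer_le (Set.singleton_subset_iff.2 (c : T).2))
    have hXbot : pPrimeCore 2 ↥X = ⊥ :=
      (map_eq_bot_iff_of_injective _ X.subtype_injective).1 (h a ha2)
    have hXc : IsPConstrained 2 ↥X := by
      have := h2c (zpowers a) (CfsgLib.Signalizer2.isPGroup_zpowers (n := 1) (by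
        rw [pow_one, sq]; exact (orderOf_two.1 ha2).1)) (zpowers_ne_bot.2 (orderOf_two.1 ha2).2)
      rwa [normalizer_zpowers_of_sq (orderOf_two.1 ha2).1 (orderOf_two.1 ha2).2] at this
    have h1 : K.subgroupOf X ≤
        (pPrimeCore 2 ↥(normalizer (T.subgroupOf X : Set X))).map
          (normalizer (T.subgroupOf X : Set X)).subtype := by
      rw [CfsgLib.Involutions.subgroupOf_normalizer_eq hTX]
      refine le_map_pPrimeCore (fun k hk => hKN hk) ?_ (by rwa [card_subgroupOf hKX])
      intro g hg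
      exact mem_normalizer_iff.2 fun x =>
        mem_normalizer_iff.1 (le_normalizer_map_pPrimeCore N hg) (x : G)
    rw [CfsgLib.PLocal.map_pPrimeCore_normalizer hXc (P := T.subgroupOf X) hT.comap_subtype, hXbot,
      bot_inf_eq, le_bot_iff]
      at h1
    refine (map_eq_bot_iff_of_injective _ N.subtype_injective).1 (?_ : K = ⊥)
    rw [← map_subgroupOf_eq_of_le hKX, h1, Subgroup.map_bot]
  exact (CfsgLib.PLocal.isPConstrained_iff_of_eq_bot hbot).1 (h2c T hT hT1)

/-- Trivial cores are inherited by normal subgroups. -/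
theorem coresTrivial_of_normal (h : CoresTrivial G) (N : Subgroup G) [N.Normal] :
    CoresTrivial ↥N := by
  intro t ht
  have ht' : orderOf (t : G) = 2 := by rw [orderOf_coe, ht]
  rw [← map_eq_bot_iff_of_injective _ N.subtype_injective, ← le_bot_iff, ← h (t : G) ht']
  refine le_map_pPrimeCore ?_ ?_ ?_
  · rintro _ ⟨x, hx, rfl⟩
    exact mem_centralizer_singleton_iff.2
      (congrArg Subtype.val (mem_centralizer_singleton_iff.1 (map_subtype_le _ hx)))
  · intro g hg
    have key : ∀ g ∈ centralizer ({(t : G)} : Set G), ∀ x ∈ (centralizerPPrimeCore 2 t).map N.subtype,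
        g * x * g⁻¹ ∈ (centralizerPPrimeCore 2 t).map N.subtype := by
      rintro g hg _ ⟨x, hx, rfl⟩
      let e : MulAut ↥N := MulAut.conjNormal g
      have h1 := CfsgLib.Components.map_centralizerPPrimeCore_le (p := 2) e t ⟨x, hx, rfl⟩
      have het : e t = t := Subtype.ext (by
        show g * (t : G) * g⁻¹ = t
        rw [mem_centralizer_singleton_iff.1 hg, mul_inv_cancel_right])
      rw [het] at h1
      exact ⟨_, h1, rfl⟩
    refine mem_normalizer_iff.2 fun x => ⟨key g hg x, fun hx => ?_⟩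
    simpa [mul_assoc] using key g⁻¹ (inv_mem hg) _ hx
  · rw [card_map_subtype]
    exact coprime_card_map_pPrimeCore _

/-- A normal subgroup of even order is not contained in a strongly embedded subgroup. -/
theorem not_le_of_normal {M : Subgroup G} (hM : IsStronglyEmbedded M) (N : Subgroup G) [N.Normal]
    (hN : Even (Nat.card N)) : ¬ N ≤ M := by
  intro hle
  refine hM.1 (eq_top_iff.2 fun g _ => ?_)
  by_contra hg
  obtain ⟨t, ht, ht2⟩ := (CfsgLib.Involutions.even_card_iff N).1 hN
  refine (CfsgLib.Involutions.odd_card_iff _).1 (hM.2.2 g hg) t ⟨hle ht, ?_⟩ ht2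
  exact CfsgLib.Involutions.mem_conj_map.2
    (hle (by simpa using ‹N.Normal›.conj_mem t ht g⁻¹))

/-- A strongly embedded subgroup restricts to normal subgroups of even order. -/
theorem stronglyEmbedded_subgroupOf {M : Subgroup G} (hM : IsStronglyEmbedded M) (N : Subgroup G)
    [N.Normal] (hN : Even (Nat.card N)) : IsStronglyEmbedded (M.subgroupOf N) := by
  haveI : Fact (Nat.Prime 2) := ⟨Nat.prime_two⟩
  refine ⟨fun h => not_le_of_normal hM N hN (subgroupOf_eq_top.1 h), ?_, fun g hg => ?_⟩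
  · obtain ⟨t, htM, ht2⟩ := (CfsgLib.Involutions.even_card_iff M).1 hM.2.1
    obtain ⟨P, hP⟩ := (CfsgLib.Signalizer2.isPGroup_zpowers (n := 1) (b := t) (by
      rw [pow_one, sq]; exact (orderOf_two.1 ht2).1)).exists_le_sylow
    have htP : t ∈ (P : Subgroup G) := hP (mem_zpowers t)
    obtain ⟨c, hcN, hc2, hct⟩ : ∃ c ∈ N, orderOf c = 2 ∧ Commute c t := by
      haveI := P.2.isNilpotent
      have hne : N.subgroupOf (P : Subgroup G) ≠ ⊥ := fun h => by
        have h1 := CfsgLib.Transfer.not_dvd_index_subgroupOf_of_normal P N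
        refine h1 ?_
        have : (P : Subgroup G).subgroupOf N = ⊥ := by
          rw [subgroupOf_eq_bot, disjoint_iff] at h ⊢
          rwa [inf_comm]
        rw [this, index_bot]
        exact hN.two_dvd
      obtain ⟨c, hc⟩ := exists_prime_orderOf_dvd_card' 2
        (CfsgLib.PGroups.dvd_card_of_ne_bot P.2 (CfsgLib.PGroups.inf_center_ne_bot P.2 hne))
      refine ⟨((c : (P : Subgroup G)) : G), mem_subgroupOf.1 c.2.1, by rw [orderOf_coe, orderOf_coe, hc],
        (congrArg Subtype.val (mem_center_iff.1 c.2.2 ⟨t, htP⟩)).symm⟩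
    exact (CfsgLib.Involutions.even_card_iff _).2 ⟨⟨c, hcN⟩,
      CfsgLib.Involutions.SE.centralizer_le hM ht2 htM (mem_centralizer_singleton_iff.2 hct.eq),
      by rw [← orderOf_coe]; exact hc2⟩
  · rw [CfsgLib.Involutions.odd_card_iff]
    rintro s ⟨hs, hs'⟩ hs2
    refine (CfsgLib.Involutions.odd_card_iff _).1 (hM.2.2 (g : G) hg) (s : G) ⟨hs, ?_⟩
      (by rw [orderOf_coe, hs2])
    exact CfsgLib.Involutions.mem_conj_map.2 (CfsgLib.Involutions.mem_conj_map.1 hs' :)

end CfsgLib.LocalEven.CentralZ
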