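import Mathlib
import Cfsg.Agent.Lib.LocalEven.CentralZ.Basic
import Cfsg.Agent.Lib.PLocal.Constrained

/-!
# Elementary abelian subgroups of order at least eight covering all involutions

If every involution of a Sylow 2-subgroup lies in an elementary abelian subgroup of order at
least eight and all four-groups of such subgroups give the same signalizer, then there is a
strongly embedded subgroup or all odd cores of involution centralisers are trivial.
-/

set_option autoImplicit false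
set_option linter.style.haveILetI false
set_option linter.unusedSectionVars false

namespace CfsgLib.LocalEven.CentralZ

open Cfsg Subgroup CfsgLib.Base CfsgLib.Signalizer2

universe u

variable {G : Type u} [Group G] [Finite G]

/-- An elementary abelian 2-subgroup of order at least eight. -/
structure Cube (A : Subgroup G) : Prop where
  elem : IsElementaryAbelian 2 A
  big : 8 ≤ Nat.card A

theorem Cube.comm {A : Subgroup G} (h : Cube A) {x y : G} (hx : x ∈ A) (hy : y ∈ A) : Commute x y :=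
  (isElementaryAbelian_iff.1 h.elem).1 x hx y hy

theorem Cube.sq {A : Subgroup G} (h : Cube A) {x : G} (hx : x ∈ A) : x * x = 1 := by
  rw [← _root_.sq]; exact h.elem.2 x hx

theorem Cube.four {A : Subgroup G} (h : Cube A) {x y : G} (hx : x ∈ A) (hy : y ∈ A) (hx1 : x ≠ 1)
    (hy1 : y ≠ 1) (hxy : x ≠ y) : Four x y :=
  ⟨h.sq hx, h.sq hy, hx1, hy1, hxy, h.comm hx hy⟩

theorem Cube.exists_fourth {A : Subgroup G} (h : Cube A) (a b : G) :
    ∃ c ∈ A, c ≠ 1 ∧ c ≠ a ∧ c ≠ b ∧ c ≠ a * b := by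
  classical
  by_contra hne
  push Not at hne
  let F : Finset G := {1, a, b, a * b}
  have hsub : (A : Set G) ⊆ F := fun c hc => by
    by_cases h1 : c = 1
    · simp [F, h1]
    by_cases h2 : c = a
    · simp [F, h2]
    by_cases h3 : c = b
    · simp [F, h3]
    simp [F, hne c hc h1 h2 h3]
  have h1 := Set.ncard_le_ncard hsub (Finset.finite_toSet F)
  rw [Set.ncard_coe_finset, ← Nat.card_coe_set_eq] at h1
  have h4 : F.card ≤ 4 := Finset.card_le_four
  have := h.big
  change Nat.card A ≤ _ at h1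
  omega

theorem Cube.map_conj {A : Subgroup G} (h : Cube A) (g : G) :
    Cube (A.map (MulAut.conj g).toMonoidHom) :=
  ⟨isElementaryAbelian_map _ h.elem,
    h.big.trans_eq (Subgroup.card_map_of_injective (MulAut.conj g).injective).symm⟩

theorem commute_of_mem_zpowers {a b x y : G} (h : Commute a b) (hx : x ∈ zpowers a)
    (hy : y ∈ zpowers b) : Commute x y := by
  obtain ⟨i, rfl⟩ := mem_zpowers_iff.1 hx
  obtain ⟨j, rfl⟩ := mem_zpowers_iff.1 hy
  exact (h.zpow_right j).zpow_left i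

theorem elementary_sup_zpowers {A : Subgroup G} (hA : IsElementaryAbelian 2 A) {x : G}
    (hx : x * x = 1) (hc : ∀ y ∈ A, Commute y x) : IsElementaryAbelian 2 (A ⊔ zpowers x) :=
  isElementaryAbelian_sup hA (isElementaryAbelian_zpowers (by rw [_root_.sq, hx])) fun y hy => by
    refine mem_centralizer_iff.2 fun w hw => ?_
    obtain ⟨i, rfl⟩ := mem_zpowers_iff.1 hw
    exact ((hc y hy).zpow_right i).eq.symm

theorem Cube.sup {A : Subgroup G} (h : Cube A) {x : G} (hx : x * x = 1)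
    (hc : ∀ y ∈ A, Commute y x) : Cube (A ⊔ zpowers x) :=
  ⟨elementary_sup_zpowers h.elem hx hc, h.big.trans (card_le_of_le le_sup_left)⟩

/-- The subgroup generated by three independent commuting involutions is a cube. -/
theorem cube_of_three {a b c : G} (h : Four a b) (hc : c * c = 1) (hac : Commute a c)
    (hbc : Commute b c) (hc1 : c ≠ 1) (hca : c ≠ a) (hcb : c ≠ b) (hcab : c ≠ a * b) :
    Cube (zpowers a ⊔ zpowers b ⊔ zpowers c) := by
  classical
  haveI : Fact (Nat.Prime 2) := ⟨Nat.prime_two⟩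
  set A := zpowers a ⊔ zpowers b ⊔ zpowers c with hA
  have hel : IsElementaryAbelian 2 A := by
    refine elementary_sup_zpowers (elementary_sup_zpowers
      (isElementaryAbelian_zpowers (by rw [_root_.sq, h.su])) h.sv fun y hy =>
        commute_of_mem_zpowers h.comm hy (mem_zpowers b)) hc ?_
    intro y hy
    have hle : zpowers a ⊔ zpowers b ≤ centralizer ({c} : Set G) := sup_le
      (zpowers_le.2 (mem_centralizer_singleton_iff.2 hac.eq))
      (zpowers_le.2 (mem_centralizer_singleton_iff.2 hbc.eq))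
    exact mem_centralizer_singleton_iff.1 (hle hy)
  refine ⟨hel, ?_⟩
  have haA : a ∈ A := mem_sup_left (mem_sup_left (mem_zpowers a))
  have hbA : b ∈ A := mem_sup_left (mem_sup_right (mem_zpowers b))
  have hcA : c ∈ A := mem_sup_right (mem_zpowers c)
  let F : Finset G := {1, a, b, a * b, c}
  have hF : F.card = 5 := by
    simp [F, Ne.symm h.u1, Ne.symm h.v1, Ne.symm h.mul_ne_one, Ne.symm hc1, h.ne, Ne.symm hca,
      Ne.symm hcb, Ne.symm hcab, h.u1, h.v1]
  have hsub : (F : Set G) ⊆ (A : Set G) := by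
    intro y hy
    simp only [F, Finset.coe_insert, Finset.coe_singleton, Set.mem_insert_iff,
      Set.mem_singleton_iff] at hy
    rcases hy with rfl | rfl | rfl | rfl | rfl
    exacts [one_mem A, haA, hbA, mul_mem haA hbA, hcA]
  have h5 := Set.ncard_le_ncard hsub (Set.toFinite _)
  rw [Set.ncard_coe_finset, hF, ← Nat.card_coe_set_eq] at h5
  change 5 ≤ Nat.card A at h5
  obtain ⟨m, hm⟩ := IsPGroup.iff_card.1 (isPGroup_of_isElementaryAbelian hel)
  rw [hm] at h5 ⊢
  have h3 : 3 ≤ m := by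
    by_contra hlt
    have := Nat.pow_le_pow_right two_pos (show m ≤ 2 by omega)
    omega
  calc 8 = 2 ^ 3 := by norm_num
    _ ≤ 2 ^ m := Nat.pow_le_pow_right two_pos h3

/-- `t` lies in an elementary abelian subgroup of `P` of order at least eight. -/
def InCube (P : Subgroup G) (t : G) : Prop := ∃ A : Subgroup G, A ≤ P ∧ Cube A ∧ t ∈ A

theorem inCube_of_three {P : Subgroup G} {a b c : G} (h : Four a b) (hc : c * c = 1)
    (hac : Commute a c) (hbc : Commute b c) (hc1 : c ≠ 1) (hca : c ≠ a) (hcb : c ≠ b)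
    (hcab : c ≠ a * b) (haP : a ∈ P) (hbP : b ∈ P) (hcP : c ∈ P) {t : G}
    (ht : t = a ∨ t = b ∨ t = c ∨ t = a * b) : InCube P t := by
  refine ⟨_, sup_le (sup_le (zpowers_le.2 haP) (zpowers_le.2 hbP)) (zpowers_le.2 hcP),
    cube_of_three h hc hac hbc hc1 hca hcb hcab, ?_⟩
  rcases ht with rfl | rfl | rfl | rfl
  exacts [mem_sup_left (mem_sup_left (mem_zpowers _)), mem_sup_left (mem_sup_right (mem_zpowers _)),
    mem_sup_right (mem_zpowers _),
    mul_mem (mem_sup_left (mem_sup_left (mem_zpowers _))) (mem_sup_left (mem_sup_right (mem_zpowers _)))]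

/-- All four-groups of cubes of `P` give the same signalizer `W`. -/
def CubeW (P W : Subgroup G) : Prop :=
  ∀ A : Subgroup G, A ≤ P → Cube A → ∀ u ∈ A, ∀ v ∈ A, Four u v → Wpair u v = W

theorem CubeW.core_le {P W : Subgroup G} (hW : CubeW P W) {t : G} (ht : InCube P t)
    (ht2 : orderOf t = 2) : centralizerPPrimeCore 2 t ≤ W := by
  obtain ⟨A, hAP, hA, htA⟩ := ht
  obtain ⟨u, huA, hu1, hut, -, -⟩ := hA.exists_fourth t t
  rw [← hW A hAP hA t htA u huA (hA.four htA huA (orderOf_two.1 ht2).2 hu1 (Ne.symm hut))]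
  exact le_sup_left.trans le_sup_left

theorem CubeW.exists_complete (h2c : LocalsConstrained G) {P W : Subgroup G} (hW : CubeW P W)
    {t : G} (ht : InCube P t) (ht2 : orderOf t = 2) :
    Odd (Nat.card W) ∧ W ⊓ centralizer ({t} : Set G) ≤ centralizerPPrimeCore 2 t := by
  haveI : Fact (Nat.Prime 2) := ⟨Nat.prime_two⟩
  obtain ⟨A₀, hAP, hA, htA⟩ := ht
  obtain ⟨m, hm⟩ := IsPGroup.iff_card.1 (isPGroup_of_isElementaryAbelian hA.elem)
  have h3 : 2 ^ 3 ∣ Nat.card A₀ := by
    rw [hm]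
    refine pow_dvd_pow 2 ?_
    by_contra hlt
    have := hA.big
    have := Nat.pow_le_pow_right two_pos (show m ≤ 2 by omega)
    omega
  obtain ⟨E₈, hE₈, hle⟩ := Sylow.exists_subgroup_card_pow_prime_le 2 h3
    (zpowers (⟨t, htA⟩ : A₀)) (n := 1) (by
      rw [pow_one, Nat.card_zpowers, ← orderOf_coe]; exact ht2) (by norm_num)
  set A := E₈.map A₀.subtype with hAdef
  have hAA : A ≤ A₀ := map_subtype_le _
  have htA' : t ∈ A := ⟨⟨t, htA⟩, hle (mem_zpowers _), rfl⟩
  have hcard : Nat.card A = 8 := by rw [hAdef, card_map_subtype, hE₈]; norm_num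
  have hc : ∀ a ∈ A, ∀ b ∈ A, Commute a b := fun a ha b hb => hA.comm (hAA ha) (hAA hb)
  set θ : G → Subgroup G := fun a => centralizerPPrimeCore 2 a with hθ
  have S' : Setup A θ := ⟨isElementaryAbelian_le hAA hA.elem, hcard, fun a _ _ => map_subtype_le _,
    fun a _ _ h => by
      have := coprime_card_map_pPrimeCore (p := 2) (centralizer ({a} : Set G))
      exact Nat.prime_two.coprime_iff_not_dvd.1 this.symm h,
    fun a ha _ b hb x hx => (mem_normalizer_iff.1 (le_normalizer_map_pPrimeCore _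
      (mem_centralizer_singleton_iff.2 (hc b hb a ha).eq)) x).1 hx,
    fun a ha _ b hb hb1 => core_inf_centralizer_le h2c (n := 1)
      (by rw [pow_one, _root_.sq]; exact hA.sq (hAA ha)) (hA.sq (hAA hb)) hb1 (hc a ha b hb)⟩
  obtain ⟨X, hX, hXθ⟩ := complete S'
  obtain ⟨u, v, c, hu, hv, -, huv, -⟩ := S'.exists_indep
  have hWX : W ≤ X := by
    rw [← hW A₀ hAP hA u (hAA hu.1) v (hAA hv.1) (hA.four (hAA hu.1) (hAA hv.1) hu.2 hv.2 huv)]
    exact sup_le (sup_le (hXθ u hu) (hXθ v hv)) (hXθ _ (S'.mul_mem_pt hu hv huv))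
  exact ⟨card_odd_of_le hWX (S'.mem_odd hX),
    (inf_le_inf_right _ hWX).trans (S'.mem_fix hX ⟨htA', (orderOf_two.1 ht2).2⟩)⟩

theorem CubeW.map_conj {P W : Subgroup G} (hW : CubeW P W) (g : G) :
    CubeW (P.map (MulAut.conj g).toMonoidHom) (W.map (MulAut.conj g).toMonoidHom) := by
  intro A hAP hA u hu v hv h
  have hinv : (A.map (MulAut.conj g⁻¹).toMonoidHom) ≤ P := by
    rintro _ ⟨x, hx, rfl⟩
    obtain ⟨y, hy, rfl⟩ := hAP hx
    show g⁻¹ * (g * y * g⁻¹) * g⁻¹⁻¹ ∈ P
    simpa [mul_assoc] using hy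
  have hu' : g⁻¹ * u * g⁻¹⁻¹ ∈ A.map (MulAut.conj g⁻¹).toMonoidHom := ⟨u, hu, rfl⟩
  have hv' : g⁻¹ * v * g⁻¹⁻¹ ∈ A.map (MulAut.conj g⁻¹).toMonoidHom := ⟨v, hv, rfl⟩
  rw [← hW _ hinv (hA.map_conj g⁻¹) _ hu' _ hv' ((hA.map_conj g⁻¹).four hu' hv'
    (fun e => h.u1 (conj_eq_one_iff.1 e)) (fun e => h.v1 (conj_eq_one_iff.1 e))
    (fun e => h.ne ((MulAut.conj g⁻¹).injective e))), map_conj_Wpair]
  congr 1 <;> group

/-- Subgroups sharing a cube have the same signalizer. -/
theorem CubeW.unique {P P' W W' A : Subgroup G} (hW : CubeW P W) (hW' : CubeW P' W')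
    (hA : Cube A) (hAP : A ≤ P) (hAP' : A ≤ P') : W = W' := by
  obtain ⟨u, hu, hu1, -, -, -⟩ := hA.exists_fourth 1 1
  obtain ⟨v, hv, hv1, hvu, -, -⟩ := hA.exists_fourth u u
  have h := hA.four hu hv hu1 hv1 (Ne.symm hvu)
  rw [← hW A hAP hA u hu v hv h, hW' A hAP' hA u hu v hv h]

theorem CubeW.normalizer_le {P W : Subgroup G} (hW : CubeW P W) {A : Subgroup G} (hA : Cube A)
    (hAP : A ≤ P) : normalizer (P : Set G) ≤ normalizer (W : Set G) := by
  intro n hn
  have hP : P.map (MulAut.conj n).toMonoidHom = P := mem_normalizer_iff_map_conj_eq.1 hn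
  have h1 := hW.map_conj n
  rw [hP] at h1
  exact mem_normalizer_iff_map_conj_eq.2 (h1.unique hW hA hAP hAP)

/-- A 2-subgroup which is maximal in `K`. -/
theorem eq_of_not_dvd_relIndex {A B K : Subgroup G} (hA : A ≤ B) (hBK : B ≤ K) (hB : IsPGroup 2 B)
    (h : ¬ 2 ∣ A.relIndex K) : A = B := by
  haveI : Fact (Nat.Prime 2) := ⟨Nat.prime_two⟩
  have h1 : A.relIndex B ∣ A.relIndex K := by
    rw [← relIndex_mul_relIndex A B K hA hBK]; exact dvd_mul_right _ _
  obtain ⟨k, hk⟩ := CfsgLib.PGroups.index_eq_pow hB (A.subgroupOf B)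
  rcases k with _ | k
  · exact le_antisymm hA (subgroupOf_eq_top.1 (index_eq_one.1 (by simpa using hk)))
  · refine absurd ((dvd_pow_self 2 k.succ_ne_zero).trans ?_) h
    rw [← hk]
    exact h1

theorem alt_of_cubes (h2c : LocalsConstrained G) (hO' : pPrimeCore 2 G = ⊥) (P : Sylow 2 G)
    (hP : (P : Subgroup G) ≠ ⊥) {W : Subgroup G}
    (hall : ∀ t ∈ (P : Subgroup G), orderOf t = 2 → InCube (P : Subgroup G) t)
    (hW : CubeW (P : Subgroup G) W)
    (hlone : ∀ z ∈ (P : Subgroup G), orderOf z = 2 → (∀ r ∈ (P : Subgroup G), Commute z r) →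
      (∀ w ∈ (P : Subgroup G), orderOf w = 2 → (∀ r ∈ (P : Subgroup G), Commute w r) → w = z) →
      centralizer ({z} : Set G) ≤ normalizer ((P : Subgroup G) : Set G)) : Alt G := by
  haveI : Fact (Nat.Prime 2) := ⟨Nat.prime_two⟩
  obtain ⟨z, hzP, hz2, -⟩ := exists_central_invol P hP
  obtain ⟨A₀, hA₀P, hA₀, -⟩ := hall z hzP hz2
  refine alt_of_odd hO' P hP (hW.exists_complete h2c (hall z hzP hz2) hz2).1
    (fun t ht ht2 => hW.core_le (hall t ht ht2) ht2) (hW.normalizer_le hA₀ hA₀P) fun t ht ht2 => ?_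
  obtain ⟨A, hAP, hA, htA⟩ := hall t ht ht2
  set X := centralizer ({t} : Set G) with hX
  have hAX : A ≤ X := fun a ha => mem_centralizer_singleton_iff.2 (hA.comm ha htA).eq
  obtain ⟨U, hAU, hUX, hU, hUi⟩ := CfsgLib.StrongTwoClasses.exists_twoGroup_ge
    (isPGroup_of_isElementaryAbelian hA.elem) hAX
  obtain ⟨Q, hQ⟩ := hU.exists_le_sylow
  have hUQ : U = (Q : Subgroup G) ⊓ X :=
    eq_of_not_dvd_relIndex (le_inf hQ hUX) inf_le_right (Q.2.to_le inf_le_left) hUi
  obtain ⟨x, hx⟩ := MulAction.exists_smul_eq G P Q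
  have hxQ : (Q : Subgroup G) = (P : Subgroup G).map (MulAut.conj x).toMonoidHom := by
    rw [← hx, Sylow.coe_subgroup_smul, map_conj_eq_smul]
  have hAQ : A ≤ (Q : Subgroup G) := hAU.trans hQ
  have hWQ : CubeW (Q : Subgroup G) W := by
    have h1 := hW.map_conj x
    rw [← hxQ] at h1
    rwa [← hW.unique h1 hA hAP hAQ] at h1
  by_cases hz' : ∃ z' ∈ (Q : Subgroup G), orderOf z' = 2 ∧
      (∀ r ∈ (Q : Subgroup G), Commute z' r) ∧ z' ≠ t
  · obtain ⟨z', hz'Q, hz'2, hz'c, hz't⟩ := hz'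
    have htQ : t ∈ (Q : Subgroup G) := hAQ htA
    have hz'U : z' ∈ U := by
      rw [hUQ]
      exact ⟨hz'Q, mem_centralizer_singleton_iff.2 (hz'c t htQ).eq⟩
    have hXc : IsPConstrained 2 ↥X := by
      have := h2c (zpowers t) (CfsgLib.Signalizer2.isPGroup_zpowers (n := 1) (by
        rw [pow_one, _root_.sq]; exact (orderOf_two.1 ht2).1)) (zpowers_ne_bot.2 (orderOf_two.1 ht2).2)
      rwa [normalizer_zpowers_of_sq (orderOf_two.1 ht2).1 (orderOf_two.1 ht2).2] at this
    set K := pPrimePCore 2 ↥X with hK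
    haveI := CfsgLib.PLocal.pPrimePCore_normal 2 ↥X
    let T : Sylow 2 ↥X := (hU.comap_subtype (K := X)).toSylow hUi
    have hDi : ¬ 2 ∣ ((T : Subgroup ↥X).subgroupOf K).index :=
      CfsgLib.Transfer.not_dvd_index_subgroupOf_of_normal T K
    let D₀ : Sylow 2 ↥K := (T.2.comap_subtype (K := K)).toSylow hDi
    set D : Subgroup ↥X := (D₀ : Subgroup ↥K).map K.subtype with hD
    have hDU : ∀ d ∈ D, (d : G) ∈ U := by
      rintro _ ⟨d, hd, rfl⟩
      exact mem_subgroupOf.1 (mem_subgroupOf.1 (hd : d ∈ (T : Subgroup ↥X).subgroupOf K) :)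
    set f := QuotientGroup.mk' (pPrimeCore 2 ↥X) with hf
    -- the image of `D` is the 2-core
    have hDim : D.map f = pCore 2 (↥X ⧸ pPrimeCore 2 ↥X) := CfsgLib.PLocal.map_sylow_pPrimePCore D₀
    set zX : ↥X := ⟨z', hUX hz'U⟩ with hzX
    have hzD : zX ∈ D := by
      have hzK : zX ∈ K := by
        rw [hK]
        show f zX ∈ pCore 2 (↥X ⧸ pPrimeCore 2 ↥X)
        refine (CfsgLib.PLocal.isPConstrained_iff.1 hXc) (mem_centralizer_iff.2 fun y hy => ?_)
        rw [SetLike.mem_coe, ← hDim] at hy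
        obtain ⟨d, hd, rfl⟩ := hy
        rw [← map_mul, ← map_mul]
        exact congrArg f (Subtype.ext (hz'c _ (hQ (hDU d hd))).eq.symm)
      exact ⟨⟨zX, hzK⟩, mem_subgroupOf.2 (mem_subgroupOf.2 hz'U), rfl⟩
    have hfour : Four z' t := ⟨(orderOf_two.1 hz'2).1, (orderOf_two.1 ht2).1, (orderOf_two.1 hz'2).2,
      (orderOf_two.1 ht2).2, hz't, hz'c t htQ⟩
    have hWz : Wpair z' t = W := by
      refine hWQ _ (sup_le hAQ (zpowers_le.2 hz'Q)) (hA.sup (orderOf_two.1 hz'2).1
        fun y hy => (hz'c y (hAQ hy)).symm) z' (mem_sup_right (mem_zpowers z')) t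
        (mem_sup_left htA) hfour
    have hND : ∀ g ∈ normalizer (D : Set ↥X), (g : G) ∈ normalizer (W : Set G) := by
      intro g hg
      have hgt : (g : G) * t * (g : G)⁻¹ = t := by
        rw [mem_centralizer_singleton_iff.1 g.2, mul_inv_cancel_right]
      have hgz : (g : G) * z' * (g : G)⁻¹ ∈ (Q : Subgroup G) :=
        hQ (hDU _ ((mem_normalizer_iff.1 hg zX).1 hzD))
      refine mem_normalizer_iff_map_conj_eq.2 ?_
      show W.map (MulAut.conj (g : G)).toMonoidHom = W
      rw [← hWz, map_conj_Wpair, hgt]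
      have hgc : Commute ((g : G) * z' * (g : G)⁻¹) t := mem_centralizer_singleton_iff.1
        ((hUQ ▸ hDU _ ((mem_normalizer_iff.1 hg zX).1 hzD) :
          (g : G) * z' * (g : G)⁻¹ ∈ (Q : Subgroup G) ⊓ X)).2
      refine Wpair_eq h2c ⟨?_, hfour.sv, fun e => hfour.u1 (conj_eq_one_iff.1 e), hfour.v1, ?_, hgc⟩
        hfour (hz'c _ hgz).symm hgc hfour.comm.symm (Commute.refl t)
      · calc (g : G) * z' * (g : G)⁻¹ * ((g : G) * z' * (g : G)⁻¹)
            = (g : G) * (z' * z') * (g : G)⁻¹ := by group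
          _ = 1 := by rw [hfour.su, mul_one, mul_inv_cancel]
      · intro e
        refine hfour.ne ((MulAut.conj (g : G)).injective ?_)
        show (g : G) * z' * (g : G)⁻¹ = (g : G) * t * (g : G)⁻¹
        rw [e, hgt]
    have htop : normalizer (D : Set ↥X) ⊔ K = ⊤ := Sylow.normalizer_sup_eq_top D₀
    have hKle : K ≤ D ⊔ pPrimeCore 2 ↥X := fun k hk => by
      rw [← QuotientGroup.ker_mk' (pPrimeCore 2 ↥X), ← comap_map_eq, mem_comap, hDim]
      exact hk
    have hθN : ∀ y ∈ pPrimeCore 2 ↥X, (y : G) ∈ normalizer (W : Set G) := fun y hy =>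
      le_normalizer (hW.core_le (hall t ht ht2) ht2 ⟨y, hy, rfl⟩)
    intro c hc
    have hmem : (⟨c, hc⟩ : ↥X) ∈ (normalizer (W : Set G)).subgroupOf X := by
      have hsup : normalizer (D : Set ↥X) ⊔ K ≤ (normalizer (W : Set G)).subgroupOf X :=
        sup_le hND (hKle.trans (sup_le (fun d hd => hND d (le_normalizer hd)) hθN))
      exact hsup (htop.symm ▸ mem_top _)
    exact mem_subgroupOf.1 hmem
  · push Not at hz'
    obtain ⟨c, hcQ, hc2, hcc⟩ := exists_central_invol Q fun h => by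
      have h1 := hAQ htA
      rw [h, Subgroup.mem_bot] at h1
      exact (orderOf_two.1 ht2).2 h1
    have hct : c = t := hz' c hcQ hc2 hcc
    subst hct
    refine le_trans ?_ (hWQ.normalizer_le hA hAQ)
    -- transport `hlone`
    set w := x⁻¹ * c * x with hw
    have hinQ : ∀ y, y ∈ (P : Subgroup G) → x * y * x⁻¹ ∈ (Q : Subgroup G) := fun y hy =>
      hxQ ▸ ⟨y, hy, rfl⟩
    have hinP : ∀ y, y ∈ (Q : Subgroup G) → x⁻¹ * y * x ∈ (P : Subgroup G) := fun y hy => by
      rw [hxQ] at hy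
      exact CfsgLib.Involutions.mem_conj_map.1 hy
    have hcw : x * w * x⁻¹ = c := by rw [hw]; group
    have hCP := hlone w (hinP c hcQ) (by rw [← orderOf_conj x w, hcw, hc2])
      (fun r hr => (MulAut.conj x).injective (by
        show x * (w * r) * x⁻¹ = x * (r * w) * x⁻¹
        calc x * (w * r) * x⁻¹ = (x * w * x⁻¹) * (x * r * x⁻¹) := by group
          _ = (x * r * x⁻¹) * (x * w * x⁻¹) := by rw [hcw]; exact hcc _ (hinQ r hr)
          _ = _ := by group))
      (fun w' hw' hw'2 hw'c => (MulAut.conj x).injective (by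
        show x * w' * x⁻¹ = x * w * x⁻¹
        rw [hcw]
        refine hz' _ (hinQ w' hw') (by rw [orderOf_conj, hw'2]) fun r hr => ?_
        have e : r = x * (x⁻¹ * r * x) * x⁻¹ := by group
        rw [e]
        show x * w' * x⁻¹ * (x * (x⁻¹ * r * x) * x⁻¹) = x * (x⁻¹ * r * x) * x⁻¹ * (x * w' * x⁻¹)
        calc x * w' * x⁻¹ * (x * (x⁻¹ * r * x) * x⁻¹) = x * (w' * (x⁻¹ * r * x)) * x⁻¹ := by group
          _ = x * ((x⁻¹ * r * x) * w') * x⁻¹ := by rw [(hw'c _ (hinP r hr)).eq]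
          _ = _ := by group))
    intro g hg
    have h1 : x⁻¹ * g * x ∈ normalizer ((P : Subgroup G) : Set G) := hCP (by
      rw [← mem_centralizer_conj, hcw]; exact hg)
    rw [mem_normalizer_iff] at h1 ⊢
    intro y
    rw [hxQ]
    simp only [CfsgLib.Involutions.mem_conj_map]
    have := h1 (x⁻¹ * y * x)
    simpa [mul_assoc] using this

end CfsgLib.LocalEven.CentralZ
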