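import Mathlib
import Cfsg.Agent.Lib.LocalEven.CentralZ.Cubes
import Cfsg.Agent.Lib.Transfer.ThompsonTransfer
import Cfsg.Agent.Lib.PGroups.Harada.Count
import Cfsg.Agent.Lib.Involutions.NormalFour
import Cfsg.Agent.Lib.FgsB.KulakovFour
import Cfsg.Agent.Lib.PGroups.MaximalClassTwo

/-!
# A central involution whose centraliser normalises the Sylow 2-subgroup
-/

set_option autoImplicit false
set_option linter.style.haveILetI false
set_option linter.unusedSectionVars false

namespace CfsgLib.LocalEven.CentralZ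

open Cfsg Subgroup CfsgLib.Base CfsgLib.Signalizer2

universe u

variable {G : Type u} [Group G] [Finite G]

/-- Two distinct central involutions and one more involution. -/
theorem alt_of_two_central (h2c : LocalsConstrained G) (hO' : pPrimeCore 2 G = ⊥) (P : Sylow 2 G)
    (hP : (P : Subgroup G) ≠ ⊥) {a b u : G} (haP : a ∈ (P : Subgroup G)) (ha2 : orderOf a = 2)
    (hac : ∀ r ∈ (P : Subgroup G), Commute a r) (hbP : b ∈ (P : Subgroup G)) (hb2 : orderOf b = 2)
    (hbc : ∀ r ∈ (P : Subgroup G), Commute b r) (hab : a ≠ b) (huP : u ∈ (P : Subgroup G))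
    (hu2 : orderOf u = 2) (hua : u ≠ a) (hub : u ≠ b) (huab : u ≠ a * b) : Alt G := by
  rw [orderOf_two] at ha2 hb2 hu2
  have h : Four a b := ⟨ha2.1, hb2.1, ha2.2, hb2.2, hab, hac b hbP⟩
  refine alt_of_cubes h2c hO' P hP (W := Wpair a b) (fun t ht ht2 => ?_) ?_ ?_
  · rw [orderOf_two] at ht2
    by_cases hd : t = a ∨ t = b ∨ t = a * b
    · exact inCube_of_three h hu2.1 (hac u huP) (hbc u huP) hu2.2 hua hub huab haP hbP huP (by
        rcases hd with e | e | e <;> simp [e])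
    · simp only [not_or] at hd
      exact inCube_of_three h ht2.1 (hac t ht) (hbc t ht) ht2.2 hd.1 hd.2.1 hd.2.2 haP hbP ht
        (Or.inr (Or.inr (Or.inl rfl)))
  · intro A hAP _ x hx y hy hxy
    exact Wpair_eq h2c hxy h (hac x (hAP hx)).symm (hbc x (hAP hx)).symm (hac y (hAP hy)).symm
      (hbc y (hAP hy)).symm
  · intro z _ _ _ huniq
    exact absurd ((huniq a haP (orderOf_two.2 ha2) hac).trans
      (huniq b hbP (orderOf_two.2 hb2) hbc).symm) hab

/-- `t` is conjugate to `z`. -/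
def Good (z t : G) : Prop := ∃ g : G, g * z * g⁻¹ = t

theorem Good.conj {z t : G} (h : Good z t) (a : G) : Good z (a * t * a⁻¹) := by
  obtain ⟨g, rfl⟩ := h
  exact ⟨a * g, by group⟩

theorem Good.of_conj {z t a : G} (h : Good z (a * t * a⁻¹)) : Good z t := by
  simpa [mul_assoc] using h.conj a⁻¹

/-- The situation in the group generated by the elements of odd order. -/
structure Hyp (P : Sylow 2 G) (z : G) : Prop where
  h2c : LocalsConstrained G
  hO' : pPrimeCore 2 G = ⊥
  hzP : z ∈ (P : Subgroup G)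
  hz2 : orderOf z = 2
  hzc : ∀ r ∈ (P : Subgroup G), Commute z r
  hC : centralizer ({z} : Set G) ≤ normalizer ((P : Subgroup G) : Set G)
  res : ∀ M : Subgroup G, M.Normal → M.index ≠ 2

namespace Hyp

variable {P : Sylow 2 G} {z : G} (H : Hyp P z)
include H

theorem ne_bot : (P : Subgroup G) ≠ ⊥ := fun h => by
  have := H.hzP
  rw [h, Subgroup.mem_bot] at this
  exact (orderOf_two.1 H.hz2).2 this

theorem le_sylow {T : Subgroup G} (hT : IsPGroup 2 T) (hc : ∀ x ∈ T, Commute x z) :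
    T ≤ (P : Subgroup G) :=
  le_of_le_normalizer P hT fun x hx => H.hC (mem_centralizer_singleton_iff.2 (hc x hx).eq)

theorem mem_sylow {x : G} {n : ℕ} (hx : x ^ 2 ^ n = 1) (hc : Commute x z) : x ∈ (P : Subgroup G) :=
  mem_of_mem_normalizer P hx (H.hC (mem_centralizer_singleton_iff.2 hc.eq))

theorem core_z_le {t : G} (ht : t ∈ (P : Subgroup G)) (ht2 : orderOf t = 2) :
    centralizerPPrimeCore 2 z ≤ centralizerPPrimeCore 2 t := by
  haveI : Fact (Nat.Prime 2) := ⟨Nat.prime_two⟩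
  have hle : centralizerPPrimeCore 2 z ≤ centralizer ({z} : Set G) := map_subtype_le _
  have hPC : (P : Subgroup G) ≤ centralizer ({z} : Set G) := fun r hr =>
    mem_centralizer_singleton_iff.2 (H.hzc r hr).eq.symm
  have hc : centralizerPPrimeCore 2 z ≤ centralizer ((P : Subgroup G) : Set G) :=
    le_centralizer_of_normalize
      (by rw [inf_comm]; exact inf_eq_bot_of_isPGroup_of_coprime P.2 (coprime_card_map_pPrimeCore _))
      (hle.trans H.hC) (hPC.trans (le_normalizer_map_pPrimeCore _))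
  refine le_trans (le_inf le_rfl (hc.trans (centralizer_le (Set.singleton_subset_iff.2 ht))))
    (core_inf_centralizer_le H.h2c (n := 1) ?_ (orderOf_two.1 ht2).1 (orderOf_two.1 ht2).2
      (H.hzc t ht))
  rw [pow_one, sq]; exact (orderOf_two.1 H.hz2).1

theorem core_eq {t : G} (ht : t ∈ (P : Subgroup G)) (hg : Good z t) :
    centralizerPPrimeCore 2 t = centralizerPPrimeCore 2 z := by
  obtain ⟨g, rfl⟩ := hg
  refine (eq_of_le_of_card_ge (H.core_z_le ht (by rw [orderOf_conj, H.hz2])) ?_).symm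
  rw [← map_conj_core, Subgroup.card_map_of_injective (MulAut.conj g).injective]

theorem alt_of_good (hall : ∀ t ∈ (P : Subgroup G), orderOf t = 2 → Good z t) : Alt G :=
  alt_of_const H.hO' P H.ne_bot fun t ht ht2 => H.core_eq ht (hall t ht ht2)

theorem exists_conj_mem_of_relIndex {Q : Subgroup G} (hQ : Q ≤ (P : Subgroup G))
    (hi : Q.relIndex (P : Subgroup G) = 2) {w : G} (hw : orderOf w = 2) :
    ∃ g : G, g * w * g⁻¹ ∈ Q := by
  by_contra hno
  push Not at hno
  obtain ⟨M, hM, hMi, -⟩ := CfsgLib.Transfer.exists_index_two_of_not_conj_mem P hQ hi hw hno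
  exact H.res M hM hMi

/-- The only involutions are three central ones. -/
theorem alt_of_central_four {z₁ y : G} (hz₁c : ∀ r ∈ (P : Subgroup G), Commute z₁ r)
    (hall : ∀ t ∈ (P : Subgroup G), orderOf t = 2 → t = z ∨ t = z₁ ∨ t = z * z₁)
    (hy : y ∈ (P : Subgroup G)) (hy2 : orderOf y = 2) (hyz : y ≠ z) (hg : Good z y) : Alt G := by
  have hcen : ∀ t ∈ (P : Subgroup G), orderOf t = 2 → ∀ r ∈ (P : Subgroup G), Commute t r := by
    intro t ht ht2 r hr
    rcases hall t ht ht2 with rfl | rfl | rfl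
    exacts [H.hzc r hr, hz₁c r hr, (H.hzc r hr).mul_left (hz₁c r hr)]
  obtain ⟨g, hgy⟩ := hg
  have hyc := hcen y hy hy2
  obtain ⟨m, hm, hmem⟩ := exists_conj_mem P (K := centralizer ({y} : Set G))
    (fun r hr => mem_centralizer_singleton_iff.2 (hyc r hr).eq.symm)
    (T := ((P : Subgroup G)).map (MulAut.conj g).toMonoidHom) (by
      rintro _ ⟨r, hr, rfl⟩
      rw [← hgy]
      refine mem_centralizer_conj.2 ?_
      show g⁻¹ * (g * r * g⁻¹) * g ∈ _
      rw [show g⁻¹ * (g * r * g⁻¹) * g = r by group]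
      exact mem_centralizer_singleton_iff.2 (H.hzc r hr).eq.symm) (P.2.map _)
  set n := m * g with hn
  have hnN : n ∈ normalizer ((P : Subgroup G) : Set G) := by
    refine mem_normalizer_iff_map_conj_eq.2 (eq_of_le_of_card_ge ?_ ?_)
    · rintro _ ⟨r, hr, rfl⟩
      show m * g * r * (m * g)⁻¹ ∈ _
      have := hmem _ ⟨r, hr, rfl⟩
      simpa [mul_assoc] using this
    · exact (Subgroup.card_map_of_injective (MulAut.conj n).injective).ge
  have hnz : n * z * n⁻¹ = y := by
    calc n * z * n⁻¹ = m * (g * z * g⁻¹) * m⁻¹ := by rw [hn]; group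
      _ = y := by
        rw [hgy, mem_centralizer_singleton_iff.1 hm, mul_inv_cancel_right]
  set y' := n * y * n⁻¹ with hy'
  have hy'P : y' ∈ (P : Subgroup G) := (mem_normalizer_iff.1 hnN y).1 hy
  have hy'2 : orderOf y' = 2 := by rw [hy', orderOf_conj, hy2]
  have hy'y : y' ≠ y := fun e => hyz ((MulAut.conj n).injective (by
    show n * y * n⁻¹ = n * z * n⁻¹
    rw [hnz]; exact e))
  have hy'z : y' ≠ z := by
    intro e
    obtain ⟨a, m', hm', horder⟩ := Nat.exists_eq_pow_mul_and_not_dvd (orderOf_pos n).ne' 2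
      (by norm_num)
    have hodd : Odd m' := Nat.not_even_iff_odd.1 fun h => hm' h.two_dvd
    obtain ⟨j, rfl⟩ := hodd
    have hconj : ∀ i : ℕ, n ^ (2 * i + 1) * z * (n ^ (2 * i + 1))⁻¹ = y := by
      intro i
      induction i with
      | zero => simpa using hnz
      | succ i ih =>
        calc n ^ (2 * (i + 1) + 1) * z * (n ^ (2 * (i + 1) + 1))⁻¹
            = n * (n * (n ^ (2 * i + 1) * z * (n ^ (2 * i + 1))⁻¹) * n⁻¹) * n⁻¹ := by
              rw [show 2 * (i + 1) + 1 = 1 + (1 + (2 * i + 1)) by omega, pow_add, pow_add, pow_one]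
              group
          _ = y := by rw [ih, ← hy', e, hnz]
    have hP : n ^ (2 * j + 1) ∈ (P : Subgroup G) := mem_of_mem_normalizer P (n := a) (by
      rw [← pow_mul, mul_comm, ← horder, pow_orderOf_eq_one]) (pow_mem hnN _)
    refine hyz ?_
    rw [← hconj j, ← (H.hzc _ hP).eq, mul_inv_cancel_right]
  refine H.alt_of_good fun t ht ht2 => ?_
  have h3 : t = z ∨ t = y ∨ t = y' := by
    rcases hall t ht ht2 with h | h | h <;>
      rcases hall y hy hy2 with h' | h' | h' <;>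
      rcases hall y' hy'P hy'2 with h'' | h'' | h'' <;>
      first
        | exact Or.inl h
        | exact absurd h' hyz
        | exact absurd h'' hy'z
        | exact absurd (h''.trans h'.symm) hy'y
        | exact Or.inr (Or.inl (h.trans h'.symm))
        | exact Or.inr (Or.inr (h.trans h''.symm))
  rcases h3 with rfl | rfl | rfl
  exacts [⟨1, by group⟩, ⟨n, hnz⟩, Good.conj ⟨n, hnz⟩ n]

end Hyp

/-- A normal four-group containing `z`. -/
structure NormalFour (P : Sylow 2 G) (z u : G) : Prop where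
  huP : u ∈ (P : Subgroup G)
  four : Four z u
  conj : ∀ g ∈ (P : Subgroup G), g * u * g⁻¹ = u ∨ g * u * g⁻¹ = u * z
  moved : ∃ g ∈ (P : Subgroup G), g * u * g⁻¹ = u * z

theorem NormalFour.relIndex {P : Sylow 2 G} {z u : G} (hzc : ∀ r ∈ (P : Subgroup G), Commute z r)
    (F : NormalFour P z u) :
    ((P : Subgroup G) ⊓ centralizer ({u} : Set G)).relIndex (P : Subgroup G) = 2 := by
  obtain ⟨a, ha, hau⟩ := F.moved
  have hne : u * z ≠ u := fun e => F.four.u1 (mul_left_cancel (e.trans (mul_one u).symm))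
  have hzz : u * z * z = u := by rw [mul_assoc, F.four.su, mul_one]
  rw [relIndex_eq_two_iff]
  refine ⟨a, ha, fun b hb => ?_⟩
  have hmem : ∀ c ∈ (P : Subgroup G),
      c ∈ (P : Subgroup G) ⊓ centralizer ({u} : Set G) ↔ c * u * c⁻¹ = u := fun c hc => by
    rw [mem_inf, mem_centralizer_singleton_iff, mul_inv_eq_iff_eq_mul]
    simp [hc]
  rw [hmem _ (mul_mem hb ha), hmem b hb]
  have e : b * a * u * (b * a)⁻¹ = b * u * b⁻¹ * z := by
    calc b * a * u * (b * a)⁻¹ = b * (a * u * a⁻¹) * b⁻¹ := by group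
      _ = b * u * (z * b⁻¹) := by rw [hau]; group
      _ = b * u * b⁻¹ * z := by rw [(hzc _ (inv_mem hb)).eq]; group
  rw [e]
  rcases F.conj b hb with h | h <;> rw [h]
  · exact Or.inr ⟨rfl, hne⟩
  · exact Or.inl ⟨hzz, hne⟩

/-- The only central involution is `z`. -/
def UniqueCentral (P : Sylow 2 G) (z : G) : Prop :=
  ∀ w ∈ (P : Subgroup G), orderOf w = 2 → (∀ r ∈ (P : Subgroup G), Commute w r) → w = z

theorem normalFour_of {P : Sylow 2 G} {z u : G} (_hzP : z ∈ (P : Subgroup G)) (hz2 : orderOf z = 2)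
    (hzc : ∀ r ∈ (P : Subgroup G), Commute z r) (huP : u ∈ (P : Subgroup G)) (hu2 : orderOf u = 2)
    (huz : u ≠ z) (hu : UniqueCentral P z)
    (hconj : ∀ g ∈ (P : Subgroup G), g * u * g⁻¹ = u ∨ g * u * g⁻¹ = u * z) : NormalFour P z u := by
  refine ⟨huP, ⟨(orderOf_two.1 hz2).1, (orderOf_two.1 hu2).1, (orderOf_two.1 hz2).2,
    (orderOf_two.1 hu2).2, Ne.symm huz, hzc u huP⟩, hconj, ?_⟩
  by_contra hne
  push Not at hne
  refine huz (hu u huP hu2 fun r hr => ?_)
  exact (mul_inv_eq_iff_eq_mul.1 ((hconj r hr).resolve_right (hne r hr))).symm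

/-- An involution in a cyclic group is unique. -/
theorem eq_of_isCyclic {C : Subgroup G} [IsCyclic C] {a b : G} (ha : a ∈ C) (hb : b ∈ C)
    (ha2 : orderOf a = 2) (hb2 : orderOf b = 2) : a = b := by
  classical
  haveI := Fintype.ofFinite C
  by_contra hne
  rw [orderOf_two] at ha2 hb2
  have hsub : ({1, ⟨a, ha⟩, ⟨b, hb⟩} : Finset C) ⊆ Finset.univ.filter fun x : C => x ^ 2 = 1 := by
    intro x hx
    simp only [Finset.mem_insert, Finset.mem_singleton] at hx
    refine Finset.mem_filter.2 ⟨Finset.mem_univ _, ?_⟩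
    rcases hx with rfl | rfl | rfl
    · exact one_pow _
    · exact Subtype.ext (by simp [sq, ha2.1])
    · exact Subtype.ext (by simp [sq, hb2.1])
  have h := (Finset.card_le_card hsub).trans (IsCyclic.card_pow_eq_one_le two_pos)
  have h3 : ({1, ⟨a, ha⟩, ⟨b, hb⟩} : Finset C).card = 3 :=
    Finset.card_eq_three.2 ⟨1, ⟨a, ha⟩, ⟨b, hb⟩, fun e => ha2.2 (congrArg Subtype.val e).symm,
      fun e => hb2.2 (congrArg Subtype.val e).symm, fun e => hne (congrArg Subtype.val e), rfl⟩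
  omega

namespace Hyp

variable {P : Sylow 2 G} {z : G} (H : Hyp P z)
include H

/-- The case with an elementary abelian subgroup of order eight. -/
theorem alt_of_cube (hu : UniqueCentral P z) {A₀ : Subgroup G} (hA₀P : A₀ ≤ (P : Subgroup G))
    (hA₀ : Cube A₀) : Alt G := by
  haveI : Fact (Nat.Prime 2) := ⟨Nat.prime_two⟩
  have hzz := (orderOf_two.1 H.hz2).1
  -- a normal four-group
  obtain ⟨u, F⟩ : ∃ u, NormalFour P z u := by
    obtain ⟨z₀, u₀, hz₀, hz₀c, hu₀, hne, hconj⟩ := CfsgLib.Involutions.exists_normal_four P.2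
      (A₀.subgroupOf (P : Subgroup G)) (isElementaryAbelian_subgroupOf hA₀.elem _)
      (by rw [card_subgroupOf hA₀P]; exact hA₀.big)
    have hz₀' : (z₀ : G) = z := hu _ z₀.2 (by rw [orderOf_coe, hz₀]) fun r hr =>
      (congrArg Subtype.val (mem_center_iff.1 hz₀c ⟨r, hr⟩)).symm
    refine ⟨(u₀ : G), normalFour_of H.hzP H.hz2 H.hzc u₀.2 (by rw [orderOf_coe, hu₀])
      (fun e => hne (Subtype.ext (e.trans hz₀'.symm))) hu fun g hg => ?_⟩
    rcases hconj ⟨g, hg⟩ with h | h
    · exact Or.inl (congrArg Subtype.val h)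
    · refine Or.inr ?_
      rw [← hz₀']
      exact congrArg Subtype.val h
  set T₁ := (P : Subgroup G) ⊓ centralizer ({u} : Set G) with hT₁
  have hi := F.relIndex H.hzc
  have hT₁c : ∀ v ∈ T₁, Commute v u := fun v hv => mem_centralizer_singleton_iff.1 hv.2
  set W := Wpair z u with hW
  -- every cube, enlarged by `z`, meets `T₁` outside `⟨z⟩`
  have henl : ∀ A : Subgroup G, A ≤ (P : Subgroup G) → Cube A →
      Cube (A ⊔ zpowers z) ∧ A ⊔ zpowers z ≤ (P : Subgroup G) := fun A hAP hA =>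
    ⟨hA.sup hzz fun y hy => (H.hzc y (hAP hy)).symm, sup_le hAP (zpowers_le.2 H.hzP)⟩
  have hmeet : ∀ A : Subgroup G, A ≤ (P : Subgroup G) → Cube A → z ∈ A →
      ∃ v ∈ A, v ∈ T₁ ∧ v ≠ 1 ∧ v ≠ z := by
    intro A hAP hA hzA
    obtain ⟨x, hxA, hx1, hxz, -, -⟩ := hA.exists_fourth z z
    by_cases hxT : x ∈ T₁
    · exact ⟨x, hxA, hxT, hx1, hxz⟩
    obtain ⟨y, hyA, hy1, hyx, hyz, hyxz⟩ := hA.exists_fourth x z
    by_cases hyT : y ∈ T₁
    · exact ⟨y, hyA, hyT, hy1, hyz⟩
    refine ⟨x * y, mul_mem hxA hyA, ?_, fun e => hyx ?_, fun e => hyxz ?_⟩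
    · have h2 := (mul_mem_iff_of_index_two (H := T₁.subgroupOf (P : Subgroup G))
        (show _ = 2 from hi) (a := ⟨x, hAP hxA⟩) (b := ⟨y, hAP hyA⟩)).2
      exact h2 (iff_of_false hxT hyT)
    · rw [eq_inv_of_mul_eq_one_right e, inv_eq_self_of_sq (hA.sq hxA)]
    · rw [← e, ← mul_assoc, hA.sq hxA, one_mul]
  have hWP : CubeW (P : Subgroup G) W := by
    intro A hAP hA x hx y hy hxy
    obtain ⟨hA', hA'P⟩ := henl A hAP hA
    have hzA : z ∈ A ⊔ zpowers z := mem_sup_right (mem_zpowers z)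
    obtain ⟨v, hvA, hvT, hv1, hvz⟩ := hmeet _ hA'P hA' hzA
    have h4 := hA'.four hzA hvA (orderOf_two.1 H.hz2).2 hv1 (Ne.symm hvz)
    have hxA : x ∈ A ⊔ zpowers z := mem_sup_left hx
    have hyA : y ∈ A ⊔ zpowers z := mem_sup_left hy
    rw [Wpair_eq H.h2c hxy h4 (hA'.comm hxA hzA) (hA'.comm hxA hvA) (hA'.comm hyA hzA)
      (hA'.comm hyA hvA)]
    exact Wpair_eq H.h2c h4 F.four (Commute.refl z) F.four.comm (h4.comm.symm) (hT₁c v hvT)
  -- a cube through `z` and `u`
  obtain ⟨B, hBP, hB, hzB, huB⟩ : ∃ B : Subgroup G,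
      B ≤ (P : Subgroup G) ∧ Cube B ∧ z ∈ B ∧ u ∈ B := by
    obtain ⟨hA', hA'P⟩ := henl A₀ hA₀P hA₀
    have hzA : z ∈ A₀ ⊔ zpowers z := mem_sup_right (mem_zpowers z)
    by_cases huA : u ∈ A₀ ⊔ zpowers z
    · exact ⟨_, hA'P, hA', hzA, huA⟩
    obtain ⟨v, hvA, hvT, hv1, hvz⟩ := hmeet _ hA'P hA' hzA
    refine ⟨_, ?_, cube_of_three F.four (hA'.sq hvA) (hA'.comm hzA hvA) (hT₁c v hvT).symm hv1 hvz
      (fun e => huA (e ▸ hvA)) (fun e => huA ?_), mem_sup_left (mem_sup_left (mem_zpowers z)),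
      mem_sup_left (mem_sup_right (mem_zpowers u))⟩
    · exact sup_le (sup_le (zpowers_le.2 H.hzP) (zpowers_le.2 F.huP)) (zpowers_le.2 (hA'P hvA))
    · have := mul_mem hzA (e ▸ hvA)
      rwa [← mul_assoc, F.four.su, one_mul] at this
  have hzIn : InCube (P : Subgroup G) z := ⟨B, hBP, hB, hzB⟩
  have hT₁In : ∀ t ∈ T₁, orderOf t = 2 → InCube (P : Subgroup G) t := by
    intro t ht ht2
    rw [orderOf_two] at ht2
    by_cases hd : t = z ∨ t = u ∨ t = z * u
    · refine ⟨B, hBP, hB, ?_⟩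
      rcases hd with rfl | rfl | rfl
      exacts [hzB, huB, mul_mem hzB huB]
    · simp only [not_or] at hd
      exact inCube_of_three F.four ht2.1 (H.hzc t ht.1) (hT₁c t ht).symm ht2.2 hd.1 hd.2.1 hd.2.2
        H.hzP F.huP ht.1 (Or.inr (Or.inr (Or.inl rfl)))
  -- involutions outside every cube are conjugate to `z`
  have hun : ∀ t ∈ (P : Subgroup G), orderOf t = 2 → ¬ InCube (P : Subgroup G) t → Good z t := by
    intro t ht ht2 hnot
    have htz : t ≠ z := fun e => hnot (e ▸ hzIn)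
    have hzt : Four z t := ⟨hzz, (orderOf_two.1 ht2).1, (orderOf_two.1 H.hz2).2,
      (orderOf_two.1 ht2).2, Ne.symm htz, H.hzc t ht⟩
    obtain ⟨g, hs⟩ := H.exists_conj_mem_of_relIndex inf_le_left hi ht2
    obtain ⟨B₀, hB₀P, hB₀, hsB⟩ := hT₁In _ hs (by rw [orderOf_conj, ht2])
    set B₁ := B₀.map (MulAut.conj g⁻¹).toMonoidHom with hB₁
    have htB₁ : t ∈ B₁ := ⟨_, hsB, by show g⁻¹ * (g * t * g⁻¹) * g⁻¹⁻¹ = t; group⟩
    have hB₁c : Cube B₁ := hB₀.map_conj _
    set X := centralizer ({t} : Set G) with hX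
    obtain ⟨U, hCU, hUX, hU, hUi⟩ := CfsgLib.StrongTwoClasses.exists_twoGroup_ge
      (B := (P : Subgroup G) ⊓ X) (P.2.to_le inf_le_left) inf_le_right
    obtain ⟨U₂, hBU₂, hU₂X, hU₂, hU₂i⟩ := CfsgLib.StrongTwoClasses.exists_twoGroup_ge
      (isPGroup_of_isElementaryAbelian hB₁c.elem)
      (show B₁ ≤ X from fun b hb => mem_centralizer_singleton_iff.2 (hB₁c.comm hb htB₁).eq)
    obtain ⟨m, hm, hmU⟩ := CfsgLib.PLocal.exists_map_conj_eq_of_sylow_in hU₂X hUX hU₂ hU hU₂i hUi
    set B₂ := B₁.map (MulAut.conj m).toMonoidHom with hB₂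
    have hB₂U : B₂ ≤ U := hmU ▸ map_mono hBU₂
    have htB₂ : t ∈ B₂ := ⟨t, htB₁, by
      show m * t * m⁻¹ = t
      rw [mem_centralizer_singleton_iff.1 hm, mul_inv_cancel_right]⟩
    have hB₂c : Cube B₂ := hB₁c.map_conj m
    obtain ⟨Q, hQ⟩ := hU.exists_le_sylow
    obtain ⟨x, hx⟩ := MulAction.exists_smul_eq G P Q
    have hxQ : (Q : Subgroup G) = (P : Subgroup G).map (MulAut.conj x).toMonoidHom := by
      rw [← hx, Sylow.coe_subgroup_smul, map_conj_eq_smul]
    set z' := x * z * x⁻¹ with hz'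
    have hz'c : ∀ q ∈ (Q : Subgroup G), Commute z' q := by
      intro q hq
      rw [hxQ] at hq
      obtain ⟨r, hr, rfl⟩ := hq
      exact (H.hzc r hr).map (MulAut.conj x)
    have hz'2 : orderOf z' = 2 := by rw [hz', orderOf_conj, H.hz2]
    have hzX : z ∈ X := mem_centralizer_singleton_iff.2 (H.hzc t ht).eq
    have hz'z : Commute z' z := hz'c z (hQ (hCU ⟨H.hzP, hzX⟩))
    have hz't : Commute z' t := hz'c t (hQ (hB₂U htB₂))
    have hz'P : z' ∈ (P : Subgroup G) := H.mem_sylow (n := 1)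
      (by rw [pow_one, sq]; exact (orderOf_two.1 hz'2).1) hz'z
    have hcontra : ∀ hc : ∀ b ∈ B₂, Commute b z, False := fun hc =>
      hnot ⟨B₂, H.le_sylow (isPGroup_of_isElementaryAbelian hB₂c.elem) hc, hB₂c, htB₂⟩
    by_cases h1 : z' = t
    · exact ⟨x, h1⟩
    by_cases h2 : z' = z
    · exact (hcontra fun b hb => h2 ▸ (hz'c b (hQ (hB₂U hb))).symm).elim
    by_cases h3 : z' = z * t
    · refine (hcontra fun b hb => ?_).elim
      have h4 := (hz'c b (hQ (hB₂U hb))).symm.mul_right (hB₂c.comm hb htB₂)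
      rwa [h3, mul_assoc, hzt.sv, mul_one] at h4
    exact absurd (inCube_of_three hzt (orderOf_two.1 hz'2).1 hz'z.symm hz't.symm
      (orderOf_two.1 hz'2).2 h2 h1 h3 H.hzP ht hz'P (Or.inr (Or.inl rfl))) hnot
  by_cases hall : ∀ t ∈ (P : Subgroup G), orderOf t = 2 → InCube (P : Subgroup G) t
  · refine alt_of_cubes H.h2c H.hO' P H.ne_bot hall hWP fun z₂ hz₂ hz₂2 hz₂c _ => ?_
    rw [hu z₂ hz₂ hz₂2 hz₂c]
    exact H.hC
  push Not at hall
  obtain ⟨t, ht, ht2, hnot⟩ := hall
  have hzt : Commute z t := H.hzc t ht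
  have htz : t ≠ z := fun e => hnot (e ▸ hzIn)
  obtain ⟨hWodd, hWfix⟩ := hWP.exists_complete H.h2c hzIn H.hz2
  have hPW : (P : Subgroup G) ≤ normalizer (W : Set G) :=
    le_normalizer.trans (hWP.normalizer_le hB hBP)
  -- the fixed points of a conjugate of `z` commuting with `z`
  have hfix : ∀ s : G, Good z s → Commute z s →
      W ⊓ centralizer ({s} : Set G) ≤ centralizerPPrimeCore 2 z := by
    rintro s ⟨g, hgs⟩ hzs w ⟨hwW, hws⟩
    replace hwW : w ∈ W := hwW
    refine hWfix ⟨hwW, ?_⟩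
    have hN : ∀ c ∈ centralizer ({s} : Set G),
        c ∈ normalizer (((g • P : Sylow 2 G) : Subgroup G) : Set G) := by
      intro c hc
      rw [← hgs] at hc
      have h1 := H.hC (mem_centralizer_conj.1 hc)
      rw [Sylow.coe_subgroup_smul, ← map_conj_eq_smul, mem_normalizer_iff]
      rw [mem_normalizer_iff] at h1
      intro y
      simp only [CfsgLib.Involutions.mem_conj_map]
      simpa [mul_assoc] using h1 (g⁻¹ * y * g)
    have hzQ : z ∈ ((g • P : Sylow 2 G) : Subgroup G) := mem_of_mem_normalizer _ (n := 1)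
      (by rw [pow_one, sq]; exact hzz) (hN z (mem_centralizer_singleton_iff.2 hzs.eq))
    have hbot := inf_eq_bot_of_isPGroup_of_coprime (g • P : Sylow 2 G).2
      (Nat.coprime_two_right.2 hWodd)
    have hmem : w * z * w⁻¹ * z⁻¹ ∈ ((g • P : Sylow 2 G) : Subgroup G) ⊓ W := by
      refine ⟨Subgroup.mul_mem _ ((mem_normalizer_iff.1 (hN w hws) z).1 hzQ) (Subgroup.inv_mem _ hzQ), (?_ : _ ∈ W)⟩
      rw [show w * z * w⁻¹ * z⁻¹ = w * (z * w⁻¹ * z⁻¹) by group]
      exact mul_mem hwW ((mem_normalizer_iff.1 (hPW H.hzP) _).1 (inv_mem hwW))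
    rw [hbot, Subgroup.mem_bot] at hmem
    exact mem_centralizer_singleton_iff.2 (mul_inv_eq_iff_eq_mul.1 (mul_inv_eq_one.1 hmem))
  have hzt2 : orderOf (z * t) = 2 := by
    rw [orderOf_two]
    refine ⟨?_, fun e => htz ?_⟩
    · rw [mul_assoc, ← mul_assoc t, hzt.symm.eq, mul_assoc z t t, (orderOf_two.1 ht2).1, mul_one, hzz]
    · rw [eq_inv_of_mul_eq_one_right e, inv_eq_self_of_sq hzz]
  have hnot' : ¬ InCube (P : Subgroup G) (z * t) := by
    rintro ⟨A, hAP, hA, hm⟩
    refine hnot ⟨A ⊔ zpowers z, (henl A hAP hA).2, (henl A hAP hA).1, ?_⟩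
    have := mul_mem (mem_sup_right (mem_zpowers z) : z ∈ A ⊔ zpowers z) (mem_sup_left hm)
    rwa [← mul_assoc, hzz, one_mul] at this
  have hWz : W ≤ centralizerPPrimeCore 2 z := by
    set V := zpowers z ⊔ zpowers t
    have hV : IsElementaryAbelian 2 V := elementary_sup_zpowers
      (isElementaryAbelian_zpowers (by rw [sq, hzz])) (orderOf_two.1 ht2).1
      fun y hy => commute_of_mem_zpowers hzt hy (mem_zpowers t)
    haveI := hV.1
    obtain ⟨k, hk⟩ := IsPGroup.iff_card.1 (isPGroup_of_isElementaryAbelian hV)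
    refine CfsgLib.Coprime.le_of_centralizer_le Nat.prime_two
      ((sup_le (zpowers_le.2 H.hzP) (zpowers_le.2 ht) : V ≤ (P : Subgroup G)).trans hPW)
      (by rw [hk]; exact (Nat.coprime_two_left.2 hWodd).pow_left k) (Nat.coprime_two_right.2 hWodd)
      (mem_sup_left (mem_zpowers z)) (mem_sup_right (mem_zpowers t))
      (by rw [sq, hzz]; exact one_mem _) (by rw [sq, (orderOf_two.1 ht2).1]; exact one_mem _)
      (hfix t (hun t ht ht2 hnot) hzt) fun i hi' => ?_
    interval_cases i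
    · rw [pow_zero, mul_one]; exact hWfix
    · rw [pow_one]
      exact hfix _ (hun _ (mul_mem H.hzP ht) hzt2 hnot') ((Commute.refl z).mul_right hzt)
  refine alt_of_const H.hO' P H.ne_bot (W := centralizerPPrimeCore 2 z) fun s hs hs2 => ?_
  by_cases h : InCube (P : Subgroup G) s
  · exact le_antisymm ((hWP.core_le h hs2).trans hWz) (H.core_z_le hs hs2)
  · exact H.core_eq hs (hun s hs hs2 h)

/-- A cyclic subgroup of index two. -/
theorem alt_of_cyclic (hu : UniqueCentral P z) {C : Subgroup G} [IsCyclic C]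
    (hCP : C ≤ (P : Subgroup G)) (hi : C.relIndex (P : Subgroup G) = 2) {y : G}
    (hy : y ∈ (P : Subgroup G)) (hy2 : orderOf y = 2) (hyz : y ≠ z) : Alt G := by
  haveI : Fact (Nat.Prime 2) := ⟨Nat.prime_two⟩
  have hdec : ∀ r ∈ (P : Subgroup G), ∀ s ∈ (P : Subgroup G), r ∉ C → s ∉ C → r * s ∈ C := by
    intro r hr s hs hrC hsC
    exact (mul_mem_iff_of_index_two (H := C.subgroupOf (P : Subgroup G)) (show _ = 2 from hi)
      (a := ⟨r, hr⟩) (b := ⟨s, hs⟩)).2 (iff_of_false hrC hsC)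
  have hzC : z ∈ C := by
    by_contra hzC
    by_cases hC1 : C = ⊥
    · have hyC : y ∉ C := by
        rw [hC1, Subgroup.mem_bot]; exact (orderOf_two.1 hy2).2
      have := hdec y hy z H.hzP hyC hzC
      rw [hC1, Subgroup.mem_bot] at this
      exact hyz (by rw [eq_inv_of_mul_eq_one_left this, inv_eq_self_of_sq (orderOf_two.1 H.hz2).1])
    obtain ⟨c, hc⟩ := exists_prime_orderOf_dvd_card' 2
      (CfsgLib.PGroups.dvd_card_of_ne_bot P.2 (H := C.subgroupOf (P : Subgroup G)) fun h => hC1 (by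
        rw [← map_subgroupOf_eq_of_le hCP, h, Subgroup.map_bot]))
    have hcC : ((c : (P : Subgroup G)) : G) ∈ C := mem_subgroupOf.1 c.2
    have hc2 : orderOf ((c : (P : Subgroup G)) : G) = 2 := by rw [orderOf_coe, orderOf_coe, hc]
    have hcen : ∀ r ∈ (P : Subgroup G), Commute ((c : (P : Subgroup G)) : G) r := by
      have hCc : ∀ r ∈ C, Commute ((c : (P : Subgroup G)) : G) r := fun r hr => by
        haveI : IsMulCommutative C := IsCyclic.isMulCommutative
        exact congrArg Subtype.val (mul_comm' (⟨_, hcC⟩ : C) ⟨r, hr⟩)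
      intro r hr
      by_cases hrC : r ∈ C
      · exact hCc r hrC
      have h1 := hCc _ (hdec r hr z H.hzP hrC hzC)
      have h2 := h1.mul_right ((H.hzc _ (hCP hcC)).symm)
      rwa [mul_assoc, (orderOf_two.1 H.hz2).1, mul_one] at h2
    exact hzC (hu _ (hCP hcC) hc2 hcen ▸ hcC)
  refine H.alt_of_good fun t ht ht2 => ?_
  obtain ⟨g, hs⟩ := H.exists_conj_mem_of_relIndex hCP hi ht2
  exact ⟨g⁻¹, by rw [eq_of_isCyclic hzC hs H.hz2 (by rw [orderOf_conj, ht2])]; group⟩

/-- The case without an elementary abelian subgroup of order eight. -/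
theorem alt_of_noCube (hu : UniqueCentral P z)
    (hno : ∀ A : Subgroup G, A ≤ (P : Subgroup G) → ¬ Cube A) {y : G} (hy : y ∈ (P : Subgroup G))
    (hy2 : orderOf y = 2) (hyz : y ≠ z) (hgood : Good z y) : Alt G := by
  haveI : Fact (Nat.Prime 2) := ⟨Nat.prime_two⟩
  have hzz := (orderOf_two.1 H.hz2).1
  have hcyc : ∀ C : Subgroup ↥(P : Subgroup G), IsCyclic C → C.index = 2 → Alt G := by
    intro C hC hCi
    haveI : IsCyclic ↥(C.map (P : Subgroup G).subtype) :=
      isCyclic_of_surjective _ (C.equivMapOfInjective _ (P : Subgroup G).subtype_injective).surjective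
    refine H.alt_of_cyclic hu (map_subtype_le C) ?_ hy hy2 hyz
    rw [relIndex, subgroupOf, comap_map_eq_self_of_injective (P : Subgroup G).subtype_injective, hCi]
  obtain ⟨n, hn⟩ := IsPGroup.iff_card.1 P.2
  have hnab : ¬ ∀ r ∈ (P : Subgroup G), Commute y r := fun h => hyz (hu y hy hy2 h)
  have hnc : ¬ IsCyclic ↥(P : Subgroup G) := fun h => hyz (eq_of_isCyclic hy H.hzP hy2 H.hz2)
  have hn3 : 3 ≤ n := by
    by_contra hlt
    have hab : IsMulCommutative ↥(P : Subgroup G) := by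
      rcases (show n = 0 ∨ n = 1 ∨ n = 2 by omega) with rfl | rfl | rfl
      · exact absurd (isCyclic_of_card_dvd_prime (p := 2) (by rw [hn]; norm_num)) hnc
      · exact absurd (isCyclic_of_card_dvd_prime (p := 2) (by rw [hn]; norm_num)) hnc
      · exact IsPGroup.isMulCommutative_of_card_eq_prime_sq (p := 2) hn
    exact hnab fun r hr => congrArg Subtype.val (hab.is_comm.comm ⟨y, hy⟩ ⟨r, hr⟩)
  by_cases hcl : Group.nilpotencyClass ↥(P : Subgroup G) = n - 1
  · obtain ⟨c, hc⟩ := CfsgLib.PGroups.exists_orderOf_eq_of_maximalClass hn3 hn hcl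
    refine hcyc (zpowers c) inferInstance ?_
    have h1 := Subgroup.card_mul_index (zpowers c)
    rw [Nat.card_zpowers, hc, hn, show n = n - 1 + 1 by omega, pow_succ, Nat.add_sub_cancel] at h1
    exact Nat.eq_of_mul_eq_mul_left (pow_pos two_pos _) h1
  obtain ⟨E, hEn, hE4, hE2⟩ := CfsgLib.FgsB.Kulakov.exists_normal_four' hn hnc hcl
  obtain ⟨u, F⟩ : ∃ u, NormalFour P z u := by
    haveI := hEn
    obtain ⟨⟨c, hcE, hcc⟩, hc1⟩ := (Subgroup.ne_bot_iff_exists_ne_one).1
      (CfsgLib.PGroups.inf_center_ne_bot P.2 (N := E) fun h => by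
        rw [h, Subgroup.card_bot] at hE4; omega)
    have hc1' : c ≠ 1 := fun e => hc1 (Subtype.ext e)
    have hcz : (c : G) = z := hu _ c.2
      (orderOf_two.2 ⟨by rw [← sq]; exact congrArg Subtype.val (hE2 c hcE),
        fun e => hc1' (Subtype.ext e)⟩)
      fun r hr => (congrArg Subtype.val (mem_center_iff.1 hcc ⟨r, hr⟩)).symm
    obtain ⟨u, huE, hu1, huc⟩ : ∃ u ∈ E, u ≠ 1 ∧ u ≠ c := by
      by_contra hne
      push Not at hne
      have hsub : (E : Set ↥(P : Subgroup G)) ⊆ {1, c} := fun x hx => by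
        by_cases hx1 : x = 1
        · exact Or.inl hx1
        · exact Or.inr (hne x hx hx1)
      have h1 := (Set.ncard_le_ncard hsub (Set.toFinite _)).trans (Set.ncard_insert_le _ _)
      rw [Set.ncard_singleton, ← Nat.card_coe_set_eq] at h1
      change Nat.card E ≤ _ at h1
      omega
    have huu : u * u = 1 := by rw [← sq]; exact hE2 u huE
    have hcc' : c * c = 1 := by rw [← sq]; exact hE2 c hcE
    refine ⟨u, normalFour_of H.hzP H.hz2 H.hzc u.2 (orderOf_two.2 ⟨congrArg Subtype.val huu,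
      fun e => hu1 (Subtype.ext e)⟩) (fun e => huc (Subtype.ext (e.trans hcz.symm))) hu
      fun g hg => ?_⟩
    set g' : ↥(P : Subgroup G) := ⟨g, hg⟩
    have hmem : g' * u * g'⁻¹ ∈ E := hEn.conj_mem u huE g'
    by_contra hcon
    simp only [not_or] at hcon
    classical
    let S : Finset ↥(P : Subgroup G) := {1, c, u, u * c, g' * u * g'⁻¹}
    have e1 : g' * u * g'⁻¹ ≠ u := fun e => hcon.1 (congrArg Subtype.val e)
    have e2 : g' * u * g'⁻¹ ≠ u * c := fun e => hcon.2 (by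
      rw [← hcz]; exact congrArg Subtype.val e)
    have e3 : g' * u * g'⁻¹ ≠ 1 := fun e => hu1 (conj_eq_one_iff.1 e)
    have e4 : g' * u * g'⁻¹ ≠ c := fun e => huc (by
      have hgc : g' * c = c * g' := mem_center_iff.1 hcc g'
      calc u = g'⁻¹ * (g' * u * g'⁻¹) * g' := by group
        _ = g'⁻¹ * (g' * c) := by rw [e, hgc]; group
        _ = c := by group)
    have e5 : u * c ≠ 1 := fun e => huc (by
      rw [eq_inv_of_mul_eq_one_left e, inv_eq_self_of_sq hcc'])
    have hS : S.card = 5 := by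
      simp [S, Ne.symm hc1', Ne.symm hu1, Ne.symm huc, Ne.symm e5, hc1', hu1, Ne.symm e1,
        Ne.symm e2, Ne.symm e3, Ne.symm e4]
    have hsub : (S : Set ↥(P : Subgroup G)) ⊆ E := by
      intro x hx
      simp only [S, Finset.coe_insert, Finset.coe_singleton, Set.mem_insert_iff,
        Set.mem_singleton_iff] at hx
      rcases hx with rfl | rfl | rfl | rfl | rfl
      exacts [one_mem E, hcE, huE, mul_mem huE hcE, hmem]
    have h1 := Set.ncard_le_ncard hsub (Set.toFinite _)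
    rw [Set.ncard_coe_finset, hS, ← Nat.card_coe_set_eq] at h1
    change 5 ≤ Nat.card E at h1
    omega
  set T₁ := (P : Subgroup G) ⊓ centralizer ({u} : Set G) with hT₁
  have hi := F.relIndex H.hzc
  have hno3 : ∀ {a b c : G}, Four a b → c * c = 1 → Commute a c → Commute b c → c ≠ 1 →
      a ∈ (P : Subgroup G) → b ∈ (P : Subgroup G) → c ∈ (P : Subgroup G) →
        c = a ∨ c = b ∨ c = a * b := by
    intro a b c h hc hac hbc hc1 haP hbP hcP
    by_contra hcon
    simp only [not_or] at hcon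
    exact hno _ (sup_le (sup_le (zpowers_le.2 haP) (zpowers_le.2 hbP)) (zpowers_le.2 hcP))
      (cube_of_three h hc hac hbc hc1 hcon.1 hcon.2.1 hcon.2.2)
  have hT₁U : ∀ v ∈ T₁, v * v = 1 → v ≠ 1 → v = z ∨ v = u ∨ v = z * u := fun v hv hvv hv1 =>
    hno3 F.four hvv (H.hzc v hv.1) (mem_centralizer_singleton_iff.1 hv.2).symm hv1 H.hzP F.huP hv.1
  have hzT₁ : z ∈ T₁ := ⟨H.hzP, mem_centralizer_singleton_iff.2 F.four.comm.eq⟩
  obtain ⟨a, haP, hau⟩ := F.moved
  have hgoodu : Good z u → Alt G := by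
    intro hgu
    have hgzu : Good z (z * u) := by
      rw [F.four.comm.eq, ← hau]; exact hgu.conj a
    refine H.alt_of_good fun t ht ht2 => ?_
    obtain ⟨g, hs⟩ := H.exists_conj_mem_of_relIndex inf_le_left hi ht2
    refine Good.of_conj (a := g) ?_
    have h2 : orderOf (g * t * g⁻¹) = 2 := by rw [orderOf_conj, ht2]
    rcases hT₁U _ hs (orderOf_two.1 h2).1 (orderOf_two.1 h2).2 with h | h | h <;> rw [h]
    exacts [⟨1, by group⟩, hgu, hgzu]
  by_cases hyT : y ∈ T₁
  · rcases hT₁U y hyT (orderOf_two.1 hy2).1 (orderOf_two.1 hy2).2 with h | h | h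
    · exact absurd h hyz
    · exact hgoodu (h ▸ hgood)
    · refine hgoodu (Good.of_conj (a := a) ?_)
      rw [hau, ← F.four.comm.eq, ← h]
      exact hgood
  obtain ⟨x, hxy⟩ := hgood
  have hyy := (orderOf_two.1 hy2).1
  set Q : Sylow 2 G := x • P with hQ
  have hQc : ∀ q ∈ (Q : Subgroup G), Commute y q := by
    intro q hq
    rw [hQ, Sylow.coe_subgroup_smul, ← map_conj_eq_smul] at hq
    obtain ⟨r, hr, rfl⟩ := hq
    rw [← hxy]
    exact (H.hzc r hr).map (MulAut.conj x)
  have hQC : centralizer ({y} : Set G) ≤ normalizer ((Q : Subgroup G) : Set G) := by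
    intro c hc
    rw [← hxy] at hc
    have h1 := H.hC (mem_centralizer_conj.1 hc)
    rw [hQ, Sylow.coe_subgroup_smul, ← map_conj_eq_smul, mem_normalizer_iff]
    rw [mem_normalizer_iff] at h1
    intro w
    simp only [CfsgLib.Involutions.mem_conj_map]
    simpa [mul_assoc] using h1 (x⁻¹ * w * x)
  set T₀ := (P : Subgroup G) ⊓ centralizer ({y} : Set G) with hT₀
  have hT₀Q : T₀ ≤ (Q : Subgroup G) :=
    le_of_le_normalizer Q (P.2.to_le inf_le_left) (inf_le_right.trans hQC)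
  have hQz : ∀ q ∈ (Q : Subgroup G), Commute q z → q ∈ T₀ := fun q hq hqz => by
    obtain ⟨k, hk⟩ := Q.2 ⟨q, hq⟩
    exact ⟨H.mem_sylow (n := k) (congrArg Subtype.val hk) hqz,
      mem_centralizer_singleton_iff.2 (hQc q hq).eq.symm⟩
  have hzT₀ : z ∈ T₀ := ⟨H.hzP, mem_centralizer_singleton_iff.2 (H.hzc y hy).eq⟩
  have hyT₀ : y ∈ T₀ := ⟨hy, mem_centralizer_singleton_iff.2 rfl⟩
  have hlt : T₀ < (Q : Subgroup G) := by
    refine lt_of_le_of_ne hT₀Q fun e => ?_
    have h1 : (Q : Subgroup G) ≤ (P : Subgroup G) := e ▸ inf_le_left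
    have h2 : (P : Subgroup G) = (Q : Subgroup G) := Q.3 P.2 h1
    exact hnab fun r hr => hQc r (h2 ▸ hr)
  -- some element of the Sylow subgroup through `y` moves `z` to `z * y`
  obtain ⟨r, hrT, hrz⟩ : ∃ r, (∀ q ∈ T₀, r * q * r⁻¹ ∈ T₀) ∧ r * z * r⁻¹ = z * y := by
    have hlt' : T₀.subgroupOf (Q : Subgroup G) < ⊤ := lt_top_iff_ne_top.2 fun h =>
      hlt.not_ge (subgroupOf_eq_top.1 h)
    obtain ⟨r, hrN, hrT₀⟩ := SetLike.exists_of_lt (CfsgLib.PGroups.lt_normalizer Q.2 hlt')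
    have hconj : ∀ q ∈ T₀, (r : G) * q * (r : G)⁻¹ ∈ T₀ := fun q hq =>
      mem_subgroupOf.1 ((mem_normalizer_iff.1 hrN ⟨q, hT₀Q hq⟩).1 (mem_subgroupOf.2 hq))
    refine ⟨r, hconj, ?_⟩
    set w := (r : G) * z * (r : G)⁻¹ with hw
    have hwT : w ∈ T₀ := hconj z hzT₀
    have hwz : w ≠ z := fun e => hrT₀ (mem_subgroupOf.2
      (hQz r r.2 (mul_inv_eq_iff_eq_mul.1 e)))
    have hwy : w ≠ y := fun e => hyz ((MulAut.conj (r : G)).injective (by
      show (r : G) * y * (r : G)⁻¹ = w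
      rw [e, ← (hQc r r.2).eq, mul_inv_cancel_right]))
    have hw2 : orderOf w = 2 := by rw [hw, orderOf_conj, H.hz2]
    have h4 : Four z y := ⟨hzz, hyy, (orderOf_two.1 H.hz2).2, (orderOf_two.1 hy2).2, Ne.symm hyz,
      H.hzc y hy⟩
    exact ((hno3 h4 (orderOf_two.1 hw2).1 (H.hzc w hwT.1)
      (mem_centralizer_singleton_iff.1 hwT.2).symm (orderOf_two.1 hw2).2 H.hzP hy
      hwT.1).resolve_left hwz).resolve_left hwy
  have hnosq : ∀ q ∈ T₀, q * q ≠ z := by
    intro q hq hqq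
    have hq' := hrT q hq
    have hsq : r * q * r⁻¹ * (r * q * r⁻¹) = z * y := by rw [← hrz, ← hqq]; group
    have hmem : (⟨r * q * r⁻¹, hq'.1⟩ : (P : Subgroup G)) ^ 2 ∈ T₁.subgroupOf (P : Subgroup G) :=
      sq_mem_of_index_two (show _ = 2 from hi) _
    rw [mem_subgroupOf, SubmonoidClass.coe_pow, sq, hsq] at hmem
    have := mul_mem hzT₁ hmem
    rw [← mul_assoc, hzz, one_mul] at this
    exact hyT this
  have hexp : ∀ q ∈ T₀, q ∈ T₁ → q = 1 ∨ q = z := by
    intro q hq0 hq1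
    have hinv : ∀ v ∈ T₀, v ∈ T₁ → v * v = 1 → v = 1 ∨ v = z := by
      intro v hv0 hv1 hvv
      refine or_iff_not_imp_left.2 fun hne => ?_
      have hvy : Commute v y := mem_centralizer_singleton_iff.1 hv0.2
      have hyu : ¬ Commute u y := fun hc =>
        hyT ⟨hy, mem_centralizer_singleton_iff.2 hc.eq.symm⟩
      rcases hT₁U v hv1 hvv hne with h | h | h
      · exact h
      · exact absurd (h ▸ hvy) hyu
      · refine absurd ?_ hyu
        have h' := (H.hzc y hy).mul_left (h ▸ hvy)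
        rwa [← mul_assoc, hzz, one_mul] at h'
    obtain ⟨k, hk⟩ := P.2 ⟨q, hq0.1⟩
    have hk' : q ^ 2 ^ k = 1 := congrArg Subtype.val hk
    have main : ∀ j, q ^ 2 ^ j = 1 → q * q = 1 := by
      intro j
      induction j with
      | zero => intro h; rw [pow_zero, pow_one] at h; rw [h, one_mul]
      | succ j ih =>
        intro h
        by_cases hj : j = 0
        · subst hj; simpa [sq] using h
        obtain ⟨j, rfl⟩ := Nat.exists_eq_succ_of_ne_zero hj
        refine ih ?_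
        have hp : q ^ 2 ^ j * q ^ 2 ^ j = q ^ 2 ^ (j + 1) := by rw [← pow_add, pow_succ, mul_two]
        have hp2 : q ^ 2 ^ (j + 1) * q ^ 2 ^ (j + 1) = 1 := by
          rw [← pow_add, ← mul_two, ← pow_succ]; exact h
        rcases hinv _ (pow_mem hq0 _) (pow_mem hq1 _) hp2 with e | e
        · exact e
        · exact absurd (hp.trans e) (hnosq _ (pow_mem hq0 _))
    exact hinv q hq0 hq1 (main k hk')
  have hsub : (T₀ : Set G) ⊆ {1, z, y, z * y} := by
    intro q hq
    by_cases hqT : q ∈ T₁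
    · rcases hexp q hq hqT with h | h <;> simp [h]
    · have h1 : q * y ∈ T₁ := (mul_mem_iff_of_index_two (H := T₁.subgroupOf (P : Subgroup G))
        (show _ = 2 from hi) (a := ⟨q, hq.1⟩) (b := ⟨y, hy⟩)).2 (iff_of_false hqT hyT)
      rcases hexp _ (mul_mem hq hyT₀) h1 with h | h
      · simp [show q = y by rw [eq_inv_of_mul_eq_one_left h, inv_eq_self_of_sq hyy]]
      · simp [show q = z * y by rw [← h, mul_assoc, hyy, mul_one]]
  have hcard : Nat.card ↥(centralizer ({(⟨y, hy⟩ : (P : Subgroup G))} : Set (P : Subgroup G))) ≤ 4 := by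
    rw [← Subgroup.card_map_of_injective (P : Subgroup G).subtype_injective]
    refine le_trans (card_le_of_le (fun w hw => ?_ : _ ≤ T₀)) ?_
    · obtain ⟨w, hw, rfl⟩ := hw
      exact ⟨w.2, mem_centralizer_singleton_iff.2
        (congrArg Subtype.val (mem_centralizer_singleton_iff.1 hw))⟩
    · have h1 := Set.ncard_le_ncard hsub (Set.toFinite _)
      rw [← Nat.card_coe_set_eq] at h1
      refine le_trans h1 ?_
      refine le_trans (Set.ncard_insert_le _ _) (Nat.succ_le_succ ?_)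
      refine le_trans (Set.ncard_insert_le _ _) (Nat.succ_le_succ ?_)
      exact le_trans (Set.ncard_insert_le _ _) (by rw [Set.ncard_singleton])
  rcases CfsgLib.PGroups.Harada.exists_cyclic_index_two P.2
      (fun e => (orderOf_two.1 hy2).2 (congrArg Subtype.val e)) hcard with h | ⟨C, hC, hCi⟩
  · exfalso
    rw [hn] at h
    have := Nat.pow_le_pow_right two_pos hn3
    omega
  · exact hcyc C hC hCi

end Hyp

end CfsgLib.LocalEven.CentralZ
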