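import Mathlib
import Cfsg.Agent.Lib.LocalEven.CentralZ.Central
import Cfsg.Agent.Lib.Transfer.NormalPComplement
import Cfsg.Prelude.Def_PLocal
import Cfsg.Prelude.Def_Transfer

/-!
# Reduction for groups in which the centraliser of `Ω₁ Z(S)` normalises `S`
-/

set_option autoImplicit false
set_option linter.style.haveILetI false
set_option linter.unusedSectionVars false

namespace CfsgLib.LocalEven.CentralZ

open Cfsg Subgroup CfsgLib.Base CfsgLib.Signalizer2

universe u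

variable {G : Type u} [Group G] [Finite G]

/-- The involutions of the centre of `S` and the identity. -/
theorem mem_omegaCenter {S : Subgroup G} {x : G} :
    x ∈ omegaOne 2 (S ⊓ centralizer (S : Set G)) ↔
      x ∈ S ∧ x * x = 1 ∧ ∀ r ∈ S, Commute x r := by
  constructor
  · intro h
    refine closure_induction (fun y hy => ?_) ?_ (fun y w _ _ hy hw => ?_) (fun y _ hy => ?_) h
    · exact ⟨hy.1.1, by rw [← sq]; exact hy.2, fun r hr => (mem_centralizer_iff.1 hy.1.2 r hr).symm⟩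
    · exact ⟨one_mem _, one_mul 1, fun r _ => Commute.one_left r⟩
    · refine ⟨mul_mem hy.1 hw.1, ?_, fun r hr => (hy.2.2 r hr).mul_left (hw.2.2 r hr)⟩
      calc y * w * (y * w) = y * (w * y) * w := by group
        _ = y * y * (w * w) := by rw [← (hy.2.2 w hw.1).eq]; group
        _ = 1 := by rw [hy.2.1, hw.2.1, one_mul]
    · refine ⟨inv_mem hy.1, ?_, fun r hr => (hy.2.2 r hr).inv_left⟩
      rw [← mul_inv_rev, hy.2.1, inv_one]
  · rintro ⟨hx, hxx, hc⟩
    exact subset_closure ⟨⟨hx, mem_centralizer_iff.2 fun r hr => (hc r hr).eq.symm⟩, by rw [sq, hxx]⟩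

theorem pCore_normal_eq_bot (hO : pCore 2 G = ⊥) (N : Subgroup G) [hN : N.Normal] :
    pCore 2 ↥N = ⊥ :=
  (map_eq_bot_iff_of_injective _ N.subtype_injective).1
    (le_bot_iff.1 (hO ▸ map_pCore_le_of_isSubnormal (Normal.isSubnormal hN)))

theorem pPrimeCore_normal_eq_bot (hO' : pPrimeCore 2 G = ⊥) (N : Subgroup G) [hN : N.Normal] :
    pPrimeCore 2 ↥N = ⊥ :=
  (map_eq_bot_iff_of_injective _ N.subtype_injective).1
    (le_bot_iff.1 (hO' ▸ map_pPrimeCore_le_of_isSubnormal (Normal.isSubnormal hN)))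

theorem isSolvable_centralizer_subgroup
    (hC : ∀ t : G, orderOf t = 2 → Group.IsSolvable ↥(centralizer ({t} : Set G)))
    (N : Subgroup G) {t : ↥N} (ht : orderOf t = 2) :
    Group.IsSolvable ↥(centralizer ({t} : Set ↥N)) := by
  haveI := hC (t : G) (by rw [orderOf_coe, ht])
  let f : ↥(centralizer ({t} : Set ↥N)) →* ↥(centralizer ({(t : G)} : Set G)) :=
    { toFun := fun x => ⟨((x : ↥N) : G), mem_centralizer_singleton_iff.2
        (congrArg Subtype.val (mem_centralizer_singleton_iff.1 x.2))⟩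
      map_one' := rfl
      map_mul' := fun _ _ => rfl }
  exact Group.isSolvable_of_isSolvable_injective (f := f) fun a b h =>
    Subtype.ext (Subtype.ext (congrArg Subtype.val h :))

theorem even_pResidual (heven : Even (Nat.card G)) (hO' : pPrimeCore 2 G = ⊥)
    (hO : pCore 2 G = ⊥) : Even (Nat.card ↥(pResidual 2 G)) := by
  haveI : Fact (Nat.Prime 2) := ⟨Nat.prime_two⟩
  haveI := CfsgLib.Transfer.pResidual_normal (G := G) (p := 2)
  rw [← Nat.not_odd_iff_even]
  intro hodd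
  have hbot : pResidual 2 G = ⊥ :=
    le_bot_iff.1 (hO' ▸ le_pPrimeCore (Nat.coprime_two_right.2 hodd))
  obtain ⟨k, hk⟩ := CfsgLib.Transfer.exists_index_pResidual (p := 2) (G := G)
  rw [hbot, index_bot] at hk
  have htop := pCore_eq_top_iff.2 (IsPGroup.of_card (p := 2) (G := G) hk)
  rw [hO] at htop
  have h1 : Nat.card G = 1 := by rw [← card_top (G := G), ← htop, card_bot]
  rw [h1] at heven
  exact Nat.not_even_one heven

theorem exists_central_invol_mem (S : Sylow 2 G) (N : Subgroup G) [N.Normal]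
    (hN : Even (Nat.card N)) :
    ∃ c ∈ (S : Subgroup G), c ∈ N ∧ orderOf c = 2 ∧ ∀ r ∈ (S : Subgroup G), Commute c r := by
  haveI : Fact (Nat.Prime 2) := ⟨Nat.prime_two⟩
  have hne : N.subgroupOf (S : Subgroup G) ≠ ⊥ := fun h => by
    refine CfsgLib.Transfer.not_dvd_index_subgroupOf_of_normal S N ?_
    rw [subgroupOf_eq_bot, disjoint_comm, ← subgroupOf_eq_bot] at h
    rw [h, index_bot]
    exact hN.two_dvd
  obtain ⟨c, hc⟩ := exists_prime_orderOf_dvd_card' 2
    (CfsgLib.PGroups.dvd_card_of_ne_bot S.2 (CfsgLib.PGroups.inf_center_ne_bot S.2 hne))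
  exact ⟨_, (c : (S : Subgroup G)).2, mem_subgroupOf.1 c.2.1, by rw [orderOf_coe, orderOf_coe, hc],
    fun r hr => (congrArg Subtype.val (mem_center_iff.1 c.2.2 ⟨r, hr⟩)).symm⟩

theorem normal_sup_omega (S : Sylow 2 G) :
    (pResidual 2 G ⊔ omegaOne 2 ((S : Subgroup G) ⊓ centralizer ((S : Subgroup G) : Set G))).Normal := by
  haveI : Fact (Nat.Prime 2) := ⟨Nat.prime_two⟩
  haveI := CfsgLib.Transfer.pResidual_normal (G := G) (p := 2)
  set H := pResidual 2 G
  set Z := omegaOne 2 ((S : Subgroup G) ⊓ centralizer ((S : Subgroup G) : Set G))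
  have hS : ∀ g ∈ (S : Subgroup G), ∀ x ∈ H ⊔ Z, g * x * g⁻¹ ∈ H ⊔ Z := by
    intro g hg x hx
    obtain ⟨h, hh, z, hz, rfl⟩ := mem_sup_of_normal_left.1 hx
    rw [show g * (h * z) * g⁻¹ = (g * h * g⁻¹) * (g * z * g⁻¹) by group,
      show g * z * g⁻¹ = z by rw [← ((mem_omegaCenter.1 hz).2.2 g hg).eq, mul_inv_cancel_right]]
    exact mul_mem_sup (‹H.Normal›.conj_mem h hh g) hz
  rw [← normalizer_eq_top_iff, eq_top_iff, ← CfsgLib.Transfer.sup_pResidual_eq_top S]
  refine sup_le (fun g hg => mem_normalizer_iff.2 fun x => ⟨hS g hg x, fun hx => ?_⟩)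
    (le_sup_left.trans le_normalizer)
  simpa [mul_assoc] using hS g⁻¹ (inv_mem hg) _ hx

theorem no_index_two_pResidual (M : Subgroup ↥(pResidual 2 G)) (hM : M.Normal) : M.index ≠ 2 := by
  haveI : Fact (Nat.Prime 2) := ⟨Nat.prime_two⟩
  intro hi
  have hle : pResidual 2 G ≤ M.map (pResidual 2 G).subtype := by
    refine (closure_le _).2 fun g hg => ?_
    have hgH : g ∈ pResidual 2 G := subset_closure hg
    exact ⟨⟨g, hgH⟩, CfsgLib.Transfer.mem_of_coprime_orderOf_of_index (p := 2)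
      ⟨1, by rw [pow_one, hi]⟩ (by rw [← orderOf_coe]; exact hg), rfl⟩
  have htop : M = ⊤ := eq_top_iff.2 fun x _ => by
    obtain ⟨y, hy, hyx⟩ := hle x.2
    rwa [← Subtype.ext hyx]
  rw [htop, index_top] at hi
  omega

theorem main (heven : Even (Nat.card G))
    (hC : ∀ t : G, orderOf t = 2 → Group.IsSolvable ↥(centralizer ({t} : Set G)))
    (hO' : pPrimeCore 2 G = ⊥) (hO : pCore 2 G = ⊥) (S : Sylow 2 G)
    (hZ : centralizer (omegaOne 2 ((S : Subgroup G) ⊓ centralizer ((S : Subgroup G) : Set G)) : Set G) ≤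
      normalizer ((S : Subgroup G) : Set G)) :
    (∃ M : Subgroup ↥(pResidual 2 G), IsStronglyEmbedded M) ∨
      (Nat.card ↥(omegaOne 2 ((S : Subgroup G) ⊓ centralizer ((S : Subgroup G) : Set G)) ⊓ pResidual 2 G) = 2 ∧
        ∀ h ∈ pResidual 2 G,
          ∀ z ∈ omegaOne 2 ((S : Subgroup G) ⊓ centralizer ((S : Subgroup G) : Set G)) ⊓ pResidual 2 G,
            h * z * h⁻¹ ∈ (S : Subgroup G) →
              h * z * h⁻¹ ∈ omegaOne 2 ((S : Subgroup G) ⊓ centralizer ((S : Subgroup G) : Set G))) ∨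
      (Nat.card ↥(omegaOne 2 ((S : Subgroup G) ⊓ centralizer ((S : Subgroup G) : Set G))) = 4 ∧
        omegaOne 2 ((S : Subgroup G) ⊓ pResidual 2 G) =
          omegaOne 2 ((S : Subgroup G) ⊓ centralizer ((S : Subgroup G) : Set G))) ∨
      CoresTrivial ↥(pResidual 2 G ⊔
        omegaOne 2 ((S : Subgroup G) ⊓ centralizer ((S : Subgroup G) : Set G))) := by
  classical
  haveI : Fact (Nat.Prime 2) := ⟨Nat.prime_two⟩
  have h2c := localsConstrained_of_solvable hC hO
  haveI hHn := CfsgLib.Transfer.pResidual_normal (G := G) (p := 2)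
  have hHe := even_pResidual heven hO' hO
  haveI := normal_sup_omega S
  set Z := omegaOne 2 ((S : Subgroup G) ⊓ centralizer ((S : Subgroup G) : Set G)) with hZdef
  set H := pResidual 2 G with hH
  have hS1 := sylow_ne_bot S heven
  obtain ⟨c, hcS, hcH, hc2, hcc⟩ := exists_central_invol_mem S H hHe
  have hcZ : c ∈ Z := mem_omegaCenter.2 ⟨hcS, (orderOf_two.1 hc2).1, hcc⟩
  by_cases hA : ∃ a ∈ (S : Subgroup G), ∃ b ∈ (S : Subgroup G), ∃ u ∈ (S : Subgroup G),
      orderOf a = 2 ∧ orderOf b = 2 ∧ orderOf u = 2 ∧ (∀ r ∈ (S : Subgroup G), Commute a r) ∧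
      (∀ r ∈ (S : Subgroup G), Commute b r) ∧ a ≠ b ∧ u ≠ a ∧ u ≠ b ∧ u ≠ a * b
  · obtain ⟨a, ha, b, hb, u, hu, ha2, hb2, hu2, hac, hbc, hab, hua, hub, huab⟩ := hA
    rcases alt_of_two_central h2c hO' S hS1 ha ha2 hac hb hb2 hbc hab hu hu2 hua hub huab with
      ⟨M, hM⟩ | hθ
    · exact Or.inl ⟨_, stronglyEmbedded_subgroupOf hM H hHe⟩
    · exact Or.inr (Or.inr (Or.inr (coresTrivial_of_normal hθ _)))
  simp only [not_exists, not_and, not_not] at hA
  by_cases htwo : ∃ b ∈ (S : Subgroup G), orderOf b = 2 ∧ (∀ r ∈ (S : Subgroup G), Commute b r) ∧ c ≠ b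
  · -- exactly three involutions, all central
    obtain ⟨b, hb, hb2, hbc, hcb⟩ := htwo
    have h4 : Four c b := ⟨(orderOf_two.1 hc2).1, (orderOf_two.1 hb2).1, (orderOf_two.1 hc2).2,
      (orderOf_two.1 hb2).2, hcb, hcc b hb⟩
    have hinv : ∀ u ∈ (S : Subgroup G), u * u = 1 → u = 1 ∨ u = c ∨ u = b ∨ u = c * b := by
      intro u hu huu
      by_contra hcon
      simp only [not_or] at hcon
      exact hcon.2.2.2
        (hA c hcS b hb u hu hc2 hb2 (orderOf_two.2 ⟨huu, hcon.1⟩) hcc hbc hcb hcon.2.1 hcon.2.2.1)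
    have hbZ : b ∈ Z := mem_omegaCenter.2 ⟨hb, (orderOf_two.1 hb2).1, hbc⟩
    have hZset : (Z : Set G) = {1, c, b, c * b} := by
      ext x
      simp only [Set.mem_insert_iff, Set.mem_singleton_iff, SetLike.mem_coe]
      refine ⟨fun hx => hinv x (mem_omegaCenter.1 hx).1 (mem_omegaCenter.1 hx).2.1, ?_⟩
      rintro (rfl | rfl | rfl | rfl)
      exacts [one_mem Z, hcZ, hbZ, mul_mem hcZ hbZ]
    have hinS : ∀ u ∈ (S : Subgroup G), u * u = 1 → u ∈ Z := fun u hu huu => by
      rw [← SetLike.mem_coe, hZset]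
      simpa only [Set.mem_insert_iff, Set.mem_singleton_iff] using hinv u hu huu
    have hZ4 : Nat.card Z = 4 := by
      rw [← SetLike.coe_sort_coe, Nat.card_coe_set_eq, hZset]
      rw [Set.ncard_insert_of_notMem, Set.ncard_insert_of_notMem, Set.ncard_insert_of_notMem,
        Set.ncard_singleton]
      · simp only [Set.mem_singleton_iff]
        intro e
        exact h4.u1 (mul_eq_right.1 e.symm)
      · simp only [Set.mem_insert_iff, Set.mem_singleton_iff, not_or]
        exact ⟨hcb, fun e => h4.v1 (mul_eq_left.1 e.symm)⟩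
      · simp only [Set.mem_insert_iff, Set.mem_singleton_iff, not_or]
        exact ⟨Ne.symm h4.u1, Ne.symm h4.v1, Ne.symm h4.mul_ne_one⟩
    by_cases hZH : Z ≤ H
    · refine Or.inr (Or.inr (Or.inl ⟨hZ4, le_antisymm ((closure_le _).2 fun x hx => ?_) ?_⟩))
      · exact hinS x hx.1.1 (by rw [← sq]; exact hx.2)
      · intro x hx
        exact subset_closure ⟨⟨(mem_omegaCenter.1 hx).1, hZH hx⟩,
          by rw [sq]; exact (mem_omegaCenter.1 hx).2.1⟩
    · refine Or.inr (Or.inl ⟨?_, fun h _ z hz hhz => hinS _ hhz ?_⟩)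
      · have hdvd : Nat.card ↥(Z ⊓ H) ∣ 2 ^ 2 := by
          have := card_dvd_of_le (inf_le_left : Z ⊓ H ≤ Z)
          rwa [hZ4] at this
        obtain ⟨k, hk2, hk⟩ := (Nat.dvd_prime_pow Nat.prime_two).1 hdvd
        have hlt : Nat.card ↥(Z ⊓ H) < 4 := by
          refine lt_of_le_of_ne ((card_le_of_le inf_le_left).trans_eq hZ4) fun e => hZH ?_
          exact inf_eq_left.1 (eq_of_le_of_card_ge inf_le_left (by rw [e, hZ4]))
        interval_cases k
        · exfalso
          rw [pow_zero, card_eq_one, eq_bot_iff_forall] at hk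
          exact h4.u1 (hk c ⟨hcZ, hcH⟩)
        · simpa using hk
        · omega
      · rw [show h * z * h⁻¹ * (h * z * h⁻¹) = h * (z * z) * h⁻¹ by group,
          (mem_omegaCenter.1 hz.1).2.1, mul_one, mul_inv_cancel]
  -- exactly one central involution
  push Not at htwo
  have hZset : (Z : Set G) = {1, c} := by
    ext x
    simp only [Set.mem_insert_iff, Set.mem_singleton_iff, SetLike.mem_coe]
    refine ⟨fun hx => ?_, ?_⟩
    · obtain ⟨hxS, hxx, hxc⟩ := mem_omegaCenter.1 hx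
      by_cases hx1 : x = 1
      · exact Or.inl hx1
      · exact Or.inr (htwo x hxS (orderOf_two.2 ⟨hxx, hx1⟩) hxc).symm
    · rintro (rfl | rfl)
      exacts [one_mem Z, hcZ]
  have hZH : Z ≤ H := fun x hx => by
    rw [← SetLike.mem_coe, hZset] at hx
    rcases hx with rfl | rfl
    exacts [one_mem H, hcH]
  have hZ2 : Nat.card Z = 2 := by
    rw [← SetLike.coe_sort_coe, Nat.card_coe_set_eq, hZset,
      Set.ncard_pair (Ne.symm (orderOf_two.1 hc2).2)]
  by_cases hwc : ∀ h ∈ H, ∀ z ∈ Z ⊓ H, h * z * h⁻¹ ∈ (S : Subgroup G) → h * z * h⁻¹ ∈ Z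
  · exact Or.inr (Or.inl ⟨by rw [inf_eq_left.2 hZH, hZ2], hwc⟩)
  push Not at hwc
  obtain ⟨h₀, hh₀, z₀, hz₀, hyS, hyZ⟩ := hwc
  have hz₀c : z₀ = c := by
    have h1 : z₀ ∈ (Z : Set G) := hz₀.1
    rw [hZset] at h1
    rcases h1 with rfl | rfl
    · exact absurd (by simp) hyZ
    · rfl
  subst hz₀c
  let P : Sylow 2 ↥H := (S.2.comap_subtype (K := H)).toSylow
    (CfsgLib.Transfer.not_dvd_index_subgroupOf_of_normal S H)
  have hPS : ∀ x : ↥H, x ∈ (P : Subgroup ↥H) ↔ (x : G) ∈ (S : Subgroup G) := fun x => Iff.rfl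
  set zH : ↥H := ⟨z₀, hcH⟩ with hzH
  have HH : Hyp P zH := by
    refine ⟨localsConstrained_of_solvable (fun t ht => isSolvable_centralizer_subgroup hC H ht)
      (pCore_normal_eq_bot hO H), pPrimeCore_normal_eq_bot hO' H, hcS, by rw [← orderOf_coe]; exact hc2,
      fun r hr => Subtype.ext (hcc r hr), fun x hx => ?_, no_index_two_pResidual⟩
    have hxS : (x : G) ∈ normalizer ((S : Subgroup G) : Set G) := by
      refine hZ (mem_centralizer_iff.2 fun w hw => ?_)
      have hw' : w ∈ (Z : Set G) := hw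
      rw [hZset] at hw'
      rcases hw' with rfl | rfl
      · simp
      · exact (congrArg Subtype.val (mem_centralizer_singleton_iff.1 hx)).symm
    exact mem_normalizer_iff.2 fun w => mem_normalizer_iff.1 hxS (w : G)
  set y : ↥H := ⟨h₀, hh₀⟩ * zH * (⟨h₀, hh₀⟩ : ↥H)⁻¹ with hy
  have hyP : y ∈ (P : Subgroup ↥H) := hyS
  have hy2 : orderOf y = 2 := by rw [hy, orderOf_conj, HH.hz2]
  have hyz : y ≠ zH := fun e => hyZ (by
    have : h₀ * z₀ * h₀⁻¹ = z₀ := congrArg Subtype.val e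
    rw [this]; exact hcZ)
  have hgood : Good zH y := ⟨⟨h₀, hh₀⟩, rfl⟩
  have halt : Alt ↥H := by
    by_cases h1 : ∃ z₁ ∈ (P : Subgroup ↥H), orderOf z₁ = 2 ∧
        (∀ r ∈ (P : Subgroup ↥H), Commute z₁ r) ∧ z₁ ≠ zH
    · obtain ⟨z₁, hz₁, hz₁2, hz₁c, hz₁z⟩ := h1
      by_cases h2 : ∃ u ∈ (P : Subgroup ↥H), orderOf u = 2 ∧ u ≠ zH ∧ u ≠ z₁ ∧ u ≠ zH * z₁
      · obtain ⟨u, hu, hu2, hua, hub, huab⟩ := h2
        exact alt_of_two_central HH.h2c HH.hO' P HH.ne_bot HH.hzP HH.hz2 HH.hzc hz₁ hz₁2 hz₁c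
          (Ne.symm hz₁z) hu hu2 hua hub huab
      · refine HH.alt_of_central_four hz₁c (fun t ht ht2 => ?_) hyP hy2 hyz hgood
        by_contra hcon
        simp only [not_or] at hcon
        exact h2 ⟨t, ht, ht2, hcon⟩
    · have hu : UniqueCentral P zH := fun w hw hw2 hwc => by
        by_contra hne
        exact h1 ⟨w, hw, hw2, hwc, hne⟩
      by_cases hcube : ∃ A : Subgroup ↥H, A ≤ (P : Subgroup ↥H) ∧ Cube A
      · obtain ⟨A, hAP, hAc⟩ := hcube
        exact HH.alt_of_cube hu hAP hAc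
      · exact HH.alt_of_noCube hu (fun A hAP hAc => hcube ⟨A, hAP, hAc⟩) hyP hy2 hyz hgood
  rcases halt with hM | hθ
  · exact Or.inl hM
  · refine Or.inr (Or.inr (Or.inr ?_))
    rw [sup_eq_left.2 hZH]
    exact hθ

end CfsgLib.LocalEven.CentralZ
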