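import Mathlib
import Cfsg.Agent.Lib.LocalEven.CentralZ.Main
import Cfsg.Agent.Lib.Fusion.RankTwoTypesAux
import Cfsg.Agent.Lib.Classical.Dihedral

/-!
# A maximal 2-local subgroup isomorphic to the symmetric group of degree four
-/

set_option autoImplicit false
set_option linter.style.haveILetI false
set_option linter.unusedSectionVars false

namespace CfsgLib.LocalEven.CentralZ

open Cfsg Subgroup CfsgLib.Base

universe u

variable {G : Type u} [Group G] [Finite G]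

/-- A Sylow 2-subgroup is dihedral or semidihedral if some four-group is its own centraliser. -/
theorem dihedral_of_selfCentralizing_four (R : Sylow 2 G) {V : Subgroup G} (hV : Nat.card V = 4)
    (hV2 : ∀ v ∈ V, v * v = 1) (hC : centralizer (V : Set G) ≤ V) :
    (∃ n : ℕ, 2 ≤ n ∧ Nonempty (↥(R : Subgroup G) ≃* DihedralGroup n)) ∨
      IsQuasiDihedral ↥(R : Subgroup G) := by
  classical
  haveI : Fact (Nat.Prime 2) := ⟨Nat.prime_two⟩
  have hVp : IsPGroup 2 V := IsPGroup.of_card (n := 2) (by rw [hV]; norm_num)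
  obtain ⟨m, -, hm⟩ := exists_conj_mem R (le_top) (le_top (a := V)) hVp
  set W := V.map (MulAut.conj m).toMonoidHom with hW
  have hWR : W ≤ (R : Subgroup G) := by
    rintro _ ⟨v, hv, rfl⟩; exact hm v hv
  have hWC : ∀ x : G, (∀ w ∈ W, Commute x w) → x ∈ W := by
    intro x hx
    have h1 : m⁻¹ * x * m ∈ centralizer (V : Set G) := mem_centralizer_iff.2 fun v hv => by
      have h2 := (hx (m * v * m⁻¹) ⟨v, hv, rfl⟩).eq
      calc v * (m⁻¹ * x * m) = m⁻¹ * ((m * v * m⁻¹) * x) * m := by group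
        _ = _ := by rw [← h2]; group
    exact ⟨_, hC h1, by show m * (m⁻¹ * x * m) * m⁻¹ = x; group⟩
  have hW2 : ∀ w ∈ W, w * w = 1 := by
    rintro _ ⟨v, hv, rfl⟩
    rw [← map_mul, hV2 v hv, map_one]
  set A := W.subgroupOf (R : Subgroup G) with hA
  have hA4 : Nat.card A = 2 ^ 2 := by
    rw [hA, card_subgroupOf hWR, hW, Subgroup.card_map_of_injective (MulAut.conj m).injective, hV]
    norm_num
  have hA2 : ∀ a ∈ A, a * a = 1 := fun a ha => Subtype.ext (hW2 _ (mem_subgroupOf.1 ha))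
  have hAA : centralizer (A : Set ↥(R : Subgroup G)) = A := by
    refine le_antisymm (fun x hx => mem_subgroupOf.2 (hWC _ fun w hw => ?_)) ?_
    · exact (congrArg Subtype.val (mem_centralizer_iff.1 hx ⟨w, hWR hw⟩ (mem_subgroupOf.2 hw))).symm
    · intro x hx
      refine mem_centralizer_iff.2 fun y hy => ?_
      have h1 := hA2 _ (mul_mem hy hx)
      have hyi : y⁻¹ = y := inv_eq_of_mul_eq_one_right (hA2 y hy)
      have hxi : x⁻¹ = x := inv_eq_of_mul_eq_one_right (hA2 x hx)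
      calc y * x = (y * x)⁻¹ := (inv_eq_of_mul_eq_one_right h1).symm
        _ = x * y := by rw [mul_inv_rev, hxi, hyi]
  -- two involutions of `A`
  obtain ⟨a, ha, ha1⟩ := (bot_or_exists_ne_one A).resolve_left fun h => by
    rw [h, Subgroup.card_bot] at hA4; norm_num at hA4
  obtain ⟨b, hb, hb1, hba⟩ : ∃ b ∈ A, b ≠ 1 ∧ b ≠ a := by
    by_contra hne
    push Not at hne
    have hsub : (A : Set ↥(R : Subgroup G)) ⊆ {1, a} := fun x hx => by
      by_cases hx1 : x = 1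
      · exact Or.inl hx1
      · exact Or.inr (hne x hx hx1)
    have h1 := (Set.ncard_le_ncard hsub (Set.toFinite _)).trans (Set.ncard_insert_le _ _)
    rw [Set.ncard_singleton, ← Nat.card_coe_set_eq] at h1
    change Nat.card A ≤ _ at h1
    omega
  obtain ⟨n, hn⟩ := IsPGroup.iff_card.1 R.2
  have hn2 : 2 ≤ n := by
    have h1 := Subgroup.card_subgroup_dvd_card A
    rwa [hA4, hn, Nat.pow_dvd_pow_iff_le_right (by norm_num)] at h1
  by_cases hn3 : 3 ≤ n
  · rcases CfsgLib.PGroups.maximalClass_two_classification hn3 hn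
        (CfsgLib.PGroups.maximalClass_of_centralizer_eq hn hA4 hAA) with
      ⟨k, e⟩ | ⟨k, hc, x, y, hx, hy, hxy⟩ | ⟨k, ⟨e⟩⟩
    · exact Or.inl ⟨2 ^ (k + 2), le_trans (by norm_num) (Nat.pow_le_pow_right (by norm_num)
        (show 2 ≤ k + 2 by omega)), e⟩
    · exact Or.inr ⟨k + 3, by omega, hc, x, y, hx, hy, hxy⟩
    · exfalso
      haveI : NeZero (2 ^ (k + 1)) := ⟨pow_ne_zero _ two_ne_zero⟩
      exact hba (e.injective (
        (CfsgLib.Fusion.RankTwoTypes.quaternion_invol_unique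
          (by rw [← map_mul, hA2 b hb, map_one]) (by simpa using hb1)).trans
        (CfsgLib.Fusion.RankTwoTypes.quaternion_invol_unique
          (by rw [← map_mul, hA2 a ha, map_one]) (by simpa using ha1)).symm))
  · obtain rfl : n = 2 := by omega
    refine Or.inl ⟨2, le_rfl, CfsgLib.Classical.nonempty_mulEquiv_dihedralGroup (by norm_num)
      (x := a) (s := b) (orderOf_two.2 ⟨hA2 a ha, ha1⟩) (hA2 b hb) ?_ ?_ (by rw [hn]; norm_num)⟩
    · rw [inv_eq_of_mul_eq_one_right (hA2 a ha)]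
      have hab := mem_centralizer_iff.1 (hAA.ge ha) b hb
      rw [hab, mul_inv_cancel_right]
    · intro hmem
      obtain ⟨i, hi⟩ := mem_zpowers_iff.1 hmem
      have ha2 : a ^ (2 : ℤ) = 1 := by rw [zpow_two, hA2 a ha]
      rcases Int.even_or_odd' i with ⟨j, rfl | rfl⟩
      · rw [zpow_mul, ha2, one_zpow] at hi
        exact hb1 hi.symm
      · rw [zpow_add, zpow_mul, ha2, one_zpow, one_mul, zpow_one] at hi
        exact hba hi.symm

/-- The normal four-group of the symmetric group of degree four. -/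
theorem exists_four_perm : ∃ K : Subgroup (Equiv.Perm (Fin 4)), K.Normal ∧ Nat.card K = 4 ∧
    (∀ k ∈ K, k * k = 1) ∧ ∀ g, (∀ k ∈ K, g * k = k * g) → g ∈ K := by
  have f1 : ∀ a b : Equiv.Perm (Fin 4), (a * a = 1 ∧ (a = 1 ∨ ∀ i, a i ≠ i)) →
      (b * b = 1 ∧ (b = 1 ∨ ∀ i, b i ≠ i)) →
        (a * b * (a * b) = 1 ∧ (a * b = 1 ∨ ∀ i, (a * b) i ≠ i)) := by decide +kernel
  have f2 : ∀ g h : Equiv.Perm (Fin 4), g * g = 1 ∧ (g = 1 ∨ ∀ i, g i ≠ i) →
      h * g * h⁻¹ * (h * g * h⁻¹) = 1 ∧ (h * g * h⁻¹ = 1 ∨ ∀ i, (h * g * h⁻¹) i ≠ i) := by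
    decide +kernel
  have f3 : Fintype.card {g : Equiv.Perm (Fin 4) // g * g = 1 ∧ (g = 1 ∨ ∀ i, g i ≠ i)} = 4 := by
    decide +kernel
  have f4 : ∀ g : Equiv.Perm (Fin 4), (∀ k : Equiv.Perm (Fin 4),
      k * k = 1 ∧ (k = 1 ∨ ∀ i, k i ≠ i) → g * k = k * g) →
        g * g = 1 ∧ (g = 1 ∨ ∀ i, g i ≠ i) := by decide +kernel
  let K : Subgroup (Equiv.Perm (Fin 4)) :=
    { carrier := {g | g * g = 1 ∧ (g = 1 ∨ ∀ i, g i ≠ i)}
      one_mem' := ⟨one_mul 1, Or.inl rfl⟩
      mul_mem' := fun {a b} ha hb => f1 a b ha hb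
      inv_mem' := fun {a} ha => by
        rw [Set.mem_ofPred_eq] at ha ⊢
        rw [inv_eq_of_mul_eq_one_right ha.1]; exact ha }
  refine ⟨K, ⟨fun g hg h => f2 g h hg⟩, ?_, fun k hk => hk.1, f4⟩
  exact (Nat.card_eq_fintype_card (α := {g : Equiv.Perm (Fin 4) // g * g = 1 ∧ (g = 1 ∨ ∀ i, g i ≠ i)})).trans f3

/-- A maximal 2-local subgroup isomorphic to `S₄` makes the Sylow 2-subgroups dihedral or
semidihedral. -/
theorem dihedral_of_maximal_sfour (R : Sylow 2 G) {M : Subgroup G} (hM : IsMaximalTwoLocal M)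
    (e : ↥M ≃* Equiv.Perm (Fin 4)) :
    (∃ n : ℕ, 2 ≤ n ∧ Nonempty (↥(R : Subgroup G) ≃* DihedralGroup n)) ∨
      IsQuasiDihedral ↥(R : Subgroup G) := by
  haveI : Fact (Nat.Prime 2) := ⟨Nat.prime_two⟩
  obtain ⟨K, hKn, hK4, hK2, hKC⟩ := exists_four_perm
  set V := (K.comap e.toMonoidHom).map M.subtype with hV
  have hV4 : Nat.card V = 4 := by
    rw [hV, card_map_subtype, ← Subgroup.card_map_of_injective (f := e.toMonoidHom) e.injective,
      map_comap_eq_self_of_surjective e.surjective, hK4]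
  have hV2 : ∀ v ∈ V, v * v = 1 := by
    rintro _ ⟨v, hv, rfl⟩
    rw [← map_mul, show v * v = 1 from e.injective (by rw [map_mul, map_one]; exact hK2 _ hv),
      map_one]
  have hMV : M ≤ normalizer (V : Set G) := fun g hg => by
    have key : ∀ g ∈ M, ∀ x ∈ V, g * x * g⁻¹ ∈ V := by
      rintro g hg _ ⟨x, hx, rfl⟩
      exact ⟨⟨g, hg⟩ * x * (⟨g, hg⟩ : ↥M)⁻¹, (hKn.comap e.toMonoidHom).conj_mem x hx _, rfl⟩
    refine mem_normalizer_iff.2 fun x => ⟨key g hg x, fun hx => ?_⟩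
    simpa [mul_assoc] using key g⁻¹ (inv_mem hg) _ hx
  have hNM : normalizer (V : Set G) = M := hM.2 _ ⟨V, IsPGroup.of_card (n := 2) (by rw [hV4]; norm_num),
    fun h => by rw [h, Subgroup.card_bot] at hV4; norm_num at hV4, rfl⟩ hMV
  refine dihedral_of_selfCentralizing_four R hV4 hV2 fun x hx => ?_
  have hxM : x ∈ M := hNM ▸ centralizer_le_normalizer _ hx
  refine ⟨⟨x, hxM⟩, hKC _ fun k hk => ?_, rfl⟩
  obtain ⟨y, rfl⟩ := e.surjective k
  show e ⟨x, hxM⟩ * e y = e y * e ⟨x, hxM⟩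
  rw [← map_mul, ← map_mul]
  exact congrArg e (Subtype.ext (mem_centralizer_iff.1 hx _ ⟨y, hk, rfl⟩).symm)

end CfsgLib.LocalEven.CentralZ
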