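import Mathlib
import Cfsg.Agent.Lib.LocalEven.CentralZ.SFour

/-!
# The structure of groups with solvable 2-locals and `C(Ω₁ Z(S)) ≤ N(S)`

The characteristic two case is reduced to the statement about maximal 2-local subgroups.
-/

set_option autoImplicit false
set_option linter.style.haveILetI false
set_option linter.unusedSectionVars false

namespace CfsgLib.LocalEven.CentralZ

open Cfsg Subgroup CfsgLib.Base CfsgLib.Signalizer2

universe u

variable {G : Type u} [Group G] [Finite G]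

/-- The statement about characteristic two type groups used below. -/
def SFourStatement : Prop :=
  ∀ (X : Type u) [Group X] [Finite X], IsCharacteristicTwoType X → pCore 2 X = ⊥ →
    (∀ N : Subgroup X, IsTwoLocal N → Group.IsSolvable N) →
    (∀ T : Sylow 2 X,
      centralizer {z : X | z ∈ (T : Subgroup X) ∧ z ^ 2 = 1 ∧ ∀ s ∈ (T : Subgroup X), s * z = z * s} ≤
        normalizer ((T : Subgroup X) : Set X)) →
    ∀ H : Subgroup X, H = Subgroup.closure {g : X | Odd (orderOf g)} →
      (∃ K : Subgroup X, IsStronglyEmbedded K) ∨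
        ∃ M₁ M₂ : Subgroup H, M₁ ≠ M₂ ∧ IsMaximalTwoLocal M₁ ∧ IsMaximalTwoLocal M₂ ∧
          Nonempty (M₁ ≃* Equiv.Perm (Fin 4)) ∧ Nonempty (M₂ ≃* Equiv.Perm (Fin 4)) ∧
            Nat.card ↥(M₁ ⊓ M₂) = 8

theorem isStronglyEmbedded_map {A B : Type*} [Group A] [Group B] [Finite A] [Finite B] (e : A ≃* B)
    {M : Subgroup A} (hM : IsStronglyEmbedded M) : IsStronglyEmbedded (M.map e.toMonoidHom) := by
  refine ⟨fun h => hM.1 ?_, ?_, fun g hg => ?_⟩
  · rw [← comap_map_eq_self_of_injective (f := e.toMonoidHom) e.injective M, h, comap_top]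
  · rw [Subgroup.card_map_of_injective (f := e.toMonoidHom) e.injective]; exact hM.2.1
  · obtain ⟨a, rfl⟩ := e.surjective g
    have h1 := hM.2.2 a fun ha => hg (mem_map_of_mem _ ha)
    have hcomp : (MulAut.conj (e a)).toMonoidHom.comp e.toMonoidHom =
        e.toMonoidHom.comp (MulAut.conj a).toMonoidHom := by ext x; simp
    rw [Subgroup.map_map, hcomp, ← Subgroup.map_map,
      ← map_inf_eq M _ e.toMonoidHom e.injective,
      Subgroup.card_map_of_injective (f := e.toMonoidHom) e.injective]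
    exact h1

theorem isQuasiDihedral_congr {A B : Type*} [Group A] [Group B] (e : A ≃* B)
    (h : IsQuasiDihedral A) : IsQuasiDihedral B := by
  obtain ⟨n, hn, hc, x, y, hx, hy, hxy⟩ := h
  exact ⟨n, hn, (Nat.card_congr e.toEquiv).symm.trans hc, e x, e y, by rw [e.orderOf_eq, hx],
    by rw [e.orderOf_eq, hy], by rw [← map_inv, ← map_mul, ← map_mul, ← map_pow, hxy]⟩

theorem isSolvable_centralizer_of_twoLocal
    (hN : ∀ L : Subgroup G, IsTwoLocal L → Group.IsSolvable L) {t : G} (ht : orderOf t = 2) :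
    Group.IsSolvable ↥(centralizer ({t} : Set G)) := by
  rw [← normalizer_zpowers_of_sq (orderOf_two.1 ht).1 (orderOf_two.1 ht).2]
  exact hN _ ⟨zpowers t, CfsgLib.Signalizer2.isPGroup_zpowers (n := 1)
    (by rw [pow_one, sq]; exact (orderOf_two.1 ht).1), zpowers_ne_bot.2 (orderOf_two.1 ht).2, rfl⟩

theorem isSolvable_twoLocal_subgroup (hN : ∀ L : Subgroup G, IsTwoLocal L → Group.IsSolvable L)
    (X : Subgroup G) {L : Subgroup ↥X} (hL : IsTwoLocal L) : Group.IsSolvable L := by
  obtain ⟨T, hT, hT1, rfl⟩ := hL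
  haveI := hN _ ⟨T.map X.subtype, hT.map _, fun h => hT1
    ((map_eq_bot_iff_of_injective _ X.subtype_injective).1 h), rfl⟩
  let f : ↥(normalizer (T : Set ↥X)) →* ↥(normalizer ((T.map X.subtype : Subgroup G) : Set G)) :=
    { toFun := fun x => ⟨((x : ↥X) : G), le_normalizer_map X.subtype ⟨x, x.2, rfl⟩⟩
      map_one' := rfl
      map_mul' := fun _ _ => rfl }
  exact Group.isSolvable_of_isSolvable_injective (f := f) fun a b h =>
    Subtype.ext (Subtype.ext (congrArg Subtype.val h :))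

theorem ngroup_main (h0518 : SFourStatement.{u}) (heven : Even (Nat.card G))
    (hN : ∀ L : Subgroup G, IsTwoLocal L → Group.IsSolvable L)
    (hZ : ∀ S : Sylow 2 G,
      centralizer (omegaOne 2 ((S : Subgroup G) ⊓ centralizer ((S : Subgroup G) : Set G)) : Set G) ≤
        normalizer ((S : Subgroup G) : Set G))
    (hO' : pPrimeCore 2 G = ⊥) (hO : pCore 2 G = ⊥) (S : Sylow 2 G) :
    (∃ M : Subgroup ↥(pResidual 2 G), IsStronglyEmbedded M) ∨
      ((∃ n : ℕ, 2 ≤ n ∧ Nonempty (↥((S : Subgroup G) ⊓ pResidual 2 G) ≃* DihedralGroup n)) ∨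
        IsQuasiDihedral ↥((S : Subgroup G) ⊓ pResidual 2 G)) ∨
      (Nat.card ↥(omegaOne 2 ((S : Subgroup G) ⊓ centralizer ((S : Subgroup G) : Set G)) ⊓ pResidual 2 G) = 2 ∧
        ∀ h ∈ pResidual 2 G,
          ∀ z ∈ omegaOne 2 ((S : Subgroup G) ⊓ centralizer ((S : Subgroup G) : Set G)) ⊓ pResidual 2 G,
            h * z * h⁻¹ ∈ (S : Subgroup G) →
              h * z * h⁻¹ ∈ omegaOne 2 ((S : Subgroup G) ⊓ centralizer ((S : Subgroup G) : Set G))) ∨
      (Nat.card ↥(omegaOne 2 ((S : Subgroup G) ⊓ centralizer ((S : Subgroup G) : Set G))) = 4 ∧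
        omegaOne 2 ((S : Subgroup G) ⊓ pResidual 2 G) =
          omegaOne 2 ((S : Subgroup G) ⊓ centralizer ((S : Subgroup G) : Set G))) := by
  classical
  haveI : Fact (Nat.Prime 2) := ⟨Nat.prime_two⟩
  have hC := fun (t : G) (ht : orderOf t = 2) => isSolvable_centralizer_of_twoLocal hN ht
  rcases main heven hC hO' hO S (hZ S) with h | h | h | hθ
  · exact Or.inl h
  · exact Or.inr (Or.inr (Or.inl h))
  · exact Or.inr (Or.inr (Or.inr h))
  haveI hHn := CfsgLib.Transfer.pResidual_normal (G := G) (p := 2)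
  haveI hXn := normal_sup_omega S
  have hHe := even_pResidual heven hO' hO
  set Z := omegaOne 2 ((S : Subgroup G) ⊓ centralizer ((S : Subgroup G) : Set G)) with hZdef
  set H := pResidual 2 G with hH
  set X := H ⊔ Z with hX
  have hXe : Even (Nat.card X) :=
    even_iff_two_dvd.2 (hHe.two_dvd.trans (card_dvd_of_le (le_sup_left : H ≤ X)))
  have hOX := pCore_normal_eq_bot hO X
  have hchar := isCharacteristicTwoType_of (localsConstrained_of_solvable
    (fun t ht => isSolvable_centralizer_subgroup hC X ht) hOX) hXe hθ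
  have hZX : ∀ T : Sylow 2 ↥X,
      centralizer {z : ↥X | z ∈ (T : Subgroup ↥X) ∧ z ^ 2 = 1 ∧ ∀ s ∈ (T : Subgroup ↥X), s * z = z * s} ≤
        normalizer ((T : Subgroup ↥X) : Set ↥X) := by
    intro T x hx
    obtain ⟨S', hS'⟩ := (T.2.map X.subtype).exists_le_sylow
    obtain ⟨g, hg⟩ := MulAction.exists_smul_eq G S S'
    have hgS : (S' : Subgroup G) = (S : Subgroup G).map (MulAut.conj g).toMonoidHom := by
      rw [← hg, Sylow.coe_subgroup_smul, map_conj_eq_smul]
    have hTS : (T : Subgroup ↥X) = (S' : Subgroup G).subgroupOf X :=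
      (T.3 (S'.2.comap_subtype) fun y hy => hS' ⟨y, hy, rfl⟩).symm
    have hxS : (x : G) ∈ normalizer ((S' : Subgroup G) : Set G) := by
      refine hZ S' (mem_centralizer_iff.2 fun w hw => ?_)
      obtain ⟨hwS, hww, hwc⟩ := mem_omegaCenter.1 hw
      have hwX : w ∈ X := by
        obtain ⟨w₀, hw₀, hw₀w⟩ := (hgS ▸ hwS : w ∈ (S : Subgroup G).map (MulAut.conj g).toMonoidHom)
        have hw₀Z : w₀ ∈ Z := by
          refine mem_omegaCenter.2 ⟨hw₀, (MulAut.conj g).injective ?_, fun r hr =>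
            (MulAut.conj g).injective ?_⟩
          · rw [map_mul, map_one]
            exact (congrArg₂ (· * ·) hw₀w hw₀w).trans hww
          · rw [map_mul, map_mul]
            have h2 := hwc (MulAut.conj g r) (hgS ▸ ⟨r, hr, rfl⟩)
            rw [← hw₀w] at h2
            exact h2.eq
        rw [← hw₀w]
        exact hXn.conj_mem w₀ (mem_sup_right hw₀Z) g
      have hmem : (⟨w, hwX⟩ : ↥X) ∈ {z : ↥X | z ∈ (T : Subgroup ↥X) ∧ z ^ 2 = 1 ∧
          ∀ s ∈ (T : Subgroup ↥X), s * z = z * s} := by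
        refine ⟨hTS ▸ mem_subgroupOf.2 hwS, Subtype.ext (by simp [sq, hww]), fun s hs => ?_⟩
        rw [hTS] at hs
        exact Subtype.ext (hwc (s : G) (mem_subgroupOf.1 hs)).eq.symm
      exact congrArg Subtype.val (mem_centralizer_iff.1 hx _ hmem)
    refine mem_normalizer_iff.2 fun y => ?_
    rw [hTS]
    exact mem_normalizer_iff.1 hxS (y : G)
  set Hx : Subgroup ↥X := Subgroup.closure {g : ↥X | Odd (orderOf g)} with hHx
  have hHxH : Hx.map X.subtype = H := by
    rw [hHx, MonoidHom.map_closure, hH, pResidual]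
    congr 1
    ext g
    simp only [Set.mem_image, Set.mem_ofPred_eq]
    constructor
    · rintro ⟨x, hx, rfl⟩
      rw [X.coe_subtype, orderOf_coe]
      exact Nat.coprime_two_right.2 hx
    · intro hg
      have hgH : g ∈ H := subset_closure hg
      exact ⟨⟨g, mem_sup_left hgH⟩, by rw [← orderOf_coe]; exact Nat.coprime_two_right.1 hg, rfl⟩
  let e : ↥Hx ≃* ↥H :=
    (Hx.equivMapOfInjective X.subtype X.subtype_injective).trans (MulEquiv.subgroupCongr hHxH)
  rcases h0518 ↥X hchar hOX (fun L hL => isSolvable_twoLocal_subgroup hN X hL) hZX Hx hHx with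
    ⟨K, hK⟩ | ⟨M₁, -, -, hM₁, -, ⟨e₁⟩, -, -⟩
  · refine Or.inl ?_
    haveI : Hx.Normal := by
      have : Hx = H.subgroupOf X := by
        rw [← hHxH, subgroupOf, comap_map_eq_self_of_injective X.subtype_injective]
      rw [this]
      infer_instance
    have hHxe : Even (Nat.card Hx) := by
      rw [Nat.card_congr e.toEquiv]; exact hHe
    exact ⟨_, isStronglyEmbedded_map e (stronglyEmbedded_subgroupOf hK Hx hHxe)⟩
  · refine Or.inr (Or.inl ?_)
    let P : Sylow 2 ↥H := (S.2.comap_subtype (K := H)).toSylow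
      (CfsgLib.Transfer.not_dvd_index_subgroupOf_of_normal S H)
    obtain ⟨R₀⟩ : Nonempty (Sylow 2 ↥Hx) := inferInstance
    let e₂ : ↥((S : Subgroup G) ⊓ H) ≃* ↥(R₀ : Subgroup ↥Hx) :=
      ((subgroupOfEquivOfLe (inf_le_right : (S : Subgroup G) ⊓ H ≤ H)).symm.trans
        (MulEquiv.subgroupCongr (inf_subgroupOf_right (S : Subgroup G) H))).trans
      ((P.equiv (R₀.mapSurjective (f := e.toMonoidHom) e.surjective)).trans
        (MulEquiv.subgroupMap e (R₀ : Subgroup ↥Hx)).symm)
    rcases dihedral_of_maximal_sfour R₀ hM₁ e₁ with ⟨n, hn, ⟨f⟩⟩ | hq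
    · exact Or.inl ⟨n, hn, ⟨e₂.trans f⟩⟩
    · exact Or.inr (isQuasiDihedral_congr e₂.symm hq)

end CfsgLib.LocalEven.CentralZ
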